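import Cfsg.Agent.H383.Cov.Parity_m3
import Cfsg.Agent.H781.Cov9.Perm_m3
import Cfsg.Agent.H377.OddThree_m3
import Cfsg.Agent.H62.PCGeo
import Mathlib
import Cfsg.Agent.H371.AlgLemma_m3
import Cfsg.Agent.H957.NoFixQuad
import Cfsg.Agent.Lib.Zsigmondy
import Cfsg.Agent.H950.UHerm
import Cfsg.Agent.H918.UBase
import Cfsg.Agent.H948.UMain
import Cfsg.Agent.LieExceptional.CyclicSylow
import Cfsg.Agent.FastGrp
import Cfsg.Agent.Prune
set_option linter.all false

section
prune_inst 0x7fffe9f9bbbff9dfdfff7e7fa69ccdfdfbba3fffa4dff9cbffe061ff0bdf5b90c9c1f3ad0beb33fe1e96c01410e87b43fdffeeffe26bd87ffffd1ff41ffbffcffdf7b508519488340fbc0ffe03f0778e7f3fffffffffffffffffffffffffffbeffbfffffffff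

-- part: H688/Cov/OMinus
section
prune_inst 0x24040022000000000000000000001000000000000000000002000a00a0400000080000000002102000800000002001000080420000000a000400000000000080000010400000020006000000000000000000000000000000000000000000000000000
set_option linter.all false
open scoped Cfsg.Agent.FastGrp

-- part: H688/Cov/Frame
section
/-!
# S2499, orthogonal groups: the frame (helper688)

* `noTwo_frame` : three conjugation invariant predicates on `GL`, pairwise incompatible below `omegaGL Q`, each one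
  satisfied by an element of `omegaGL Q`: then `POmega F Q` is not covered by two classes of proper subgroups;
* `exists_small` : a reducible group of isometries stabilises a nonzero subspace of dimension at most `n / 2`;
* `InvIn`, `KillAt`, `NegB` : the three predicates used in the rows, with conjugation invariance;
* `noTwo_gen` : the general row.
-/

set_option autoImplicit false
set_option linter.unusedSectionVars false

namespace Cfsg.Agent.H688.Cov

open Cfsg Cfsg.Geo Module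
open Cfsg.Agent.H278.Cov Cfsg.Agent.H383.Cov
open Cfsg.Agent.LieClassical.OrthCore (Nondeg)
open scoped MatrixGroups Matrix

universe u

variable {ι : Type} [Fintype ι] [DecidableEq ι] {F : Type u} [Field F]

section frame

variable {Q : (ι → F) → F}

/-- invariance under conjugation by elements of `omegaGL Q` -/
def ConjInv (Q : (ι → F) → F) (P : GL ι F → Prop) : Prop :=
  ∀ x g : GL ι F, g ∈ omegaGL Q → P x → P (g * x * g⁻¹)

/-- no proper subgroup of `omegaGL Q` contains an element with `P` and an element with `R` -/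
def IncP (Q : (ι → F) → F) (P R : GL ι F → Prop) : Prop :=
  ∀ H : Subgroup (GL ι F), H ≤ omegaGL Q → H ≠ omegaGL Q → ∀ x ∈ H, ∀ y ∈ H, P x → R y → False

/-- the inclusion of `Ω` in `GL` -/
def inc (Q : (ι → F) → F) : Omega F Q →* GL ι F := (isometryGroup F Q).subtype.comp (Omega F Q).subtype

theorem inc_injective : Function.Injective (inc Q) :=
  (Subgroup.subtype_injective _).comp (Subgroup.subtype_injective _)

theorem range_inc : (inc Q).range = omegaGL Q := by
  rw [inc, MonoidHom.range_comp, Subgroup.range_subtype]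
  rfl

theorem mem_omegaGL {x : GL ι F} : x ∈ omegaGL Q ↔ ∃ y, inc Q y = x := by
  rw [← range_inc]
  rfl

theorem omegaGL_le : omegaGL Q ≤ isometryGroup F Q := by
  rintro _ ⟨y, -, rfl⟩
  exact y.2

theorem inc_of_incP {P R : GL ι F → Prop} (hP : ConjInv Q P) (hR : ConjInv Q R) (h : IncP Q P R)
    {x y : Omega F Q} (hx : P (inc Q x)) (hy : R (inc Q y)) : Inc x y := by
  intro K hK
  by_contra hcon
  rw [not_or] at hcon
  obtain ⟨g, hg⟩ := not_av hcon.1
  obtain ⟨k, hk⟩ := not_av hcon.2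
  refine h (K.map (inc Q)) ?_ ?_ _ (Subgroup.mem_map_of_mem _ hg) _ (Subgroup.mem_map_of_mem _ hk) ?_ ?_
  · rw [← range_inc]
    exact Subgroup.map_le_range _ _
  · intro he
    apply hK
    rw [← range_inc, MonoidHom.range_eq_map] at he
    exact Subgroup.map_injective inc_injective he
  · rw [map_mul, map_mul, map_inv]
    exact hP _ _ (mem_omegaGL.2 ⟨g, rfl⟩) hx
  · rw [map_mul, map_mul, map_inv]
    exact hR _ _ (mem_omegaGL.2 ⟨k, rfl⟩) hy

/-- **the frame** -/
theorem noTwo_frame {P₁ P₂ P₃ : GL ι F → Prop} (c₁ : ConjInv Q P₁) (c₂ : ConjInv Q P₂) (c₃ : ConjInv Q P₃)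
    (e₁ : ∃ x ∈ omegaGL Q, P₁ x) (e₂ : ∃ x ∈ omegaGL Q, P₂ x) (e₃ : ∃ x ∈ omegaGL Q, P₃ x)
    (h₁₂ : IncP Q P₁ P₂) (h₂₃ : IncP Q P₂ P₃) (h₁₃ : IncP Q P₁ P₃) : NoTwo (POmega F Q) := by
  obtain ⟨_, h1, p₁⟩ := e₁
  obtain ⟨_, h2, p₂⟩ := e₂
  obtain ⟨_, h3, p₃⟩ := e₃
  obtain ⟨x, rfl⟩ := mem_omegaGL.1 h1
  obtain ⟨y, rfl⟩ := mem_omegaGL.1 h2
  obtain ⟨z, rfl⟩ := mem_omegaGL.1 h3
  exact (noTwo_of_three (inc_of_incP c₁ c₂ h₁₂ p₁ p₂) (inc_of_incP c₂ c₃ h₂₃ p₂ p₃)
    (inc_of_incP c₁ c₃ h₁₃ p₁ p₃)).of_surjective (QuotientGroup.mk' _) (QuotientGroup.mk'_surjective _)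

end frame

section small

variable [Finite F] {Q : QuadraticForm F (ι → F)}

theorem isND (hQ : Nondeg Q) : IsNondegenerateQuadraticForm ⇑Q where
  smul c v := by rw [QuadraticMap.map_smul, smul_eq_mul, pow_two]
  polar_bilinear :=
    { add_left := fun x y v => QuadraticMap.polar_add_left Q x y v
      smul_left := fun c x v => by rw [QuadraticMap.polar_smul_left, smul_eq_mul]
      add_right := fun v x y => QuadraticMap.polar_add_right Q v x y
      smul_right := fun c v x => by rw [QuadraticMap.polar_smul_right, smul_eq_mul] }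
  nondegenerate := by
    intro v hv
    have h1 : ∃ x, QuadraticMap.polar Q v x ≠ 0 := by
      by_contra hcon
      push Not at hcon
      exact hv (hQ v hcon)
    obtain ⟨x, hx⟩ := h1
    exact ⟨⟨x, by rwa [QuadraticMap.polar_comm]⟩, ⟨x, hx⟩⟩

theorem mulVec_isom {x : GL ι F} (hx : x ∈ isometryGroup F ⇑Q) (v : ι → F) : Q ((x : Matrix ι ι F) *ᵥ v) = Q v := hx v v

/-- a reducible group of isometries stabilises a nonzero subspace of dimension at most `n / 2` -/
theorem exists_small (hQ : Nondeg Q) {H : Subgroup (GL ι F)} (hH : H ≤ isometryGroup F ⇑Q) (hr : Red H) :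
    ∃ W : Submodule F (ι → F), W ≠ ⊥ ∧ 2 * finrank F W ≤ Fintype.card ι ∧
      ∀ h ∈ H, ∀ w ∈ W, (h : Matrix ι ι F) *ᵥ w ∈ W := by
  obtain ⟨W, h0, h1, hst⟩ := hr
  have hinv : ∀ h ∈ H, ∀ w ∈ W, (h : Matrix ι ι F) *ᵥ w ∈ W := fun h hh w hw => (hst hh w).1 hw
  by_cases hd : 2 * finrank F W ≤ Fintype.card ι
  · exact ⟨W, h0, hd, hinv⟩
  have hB : (QuadraticMap.polarBilin Q).Nondegenerate := Cfsg.Agent.H377.nondegenerate_of_nondeg hQ
  have hrefl : (QuadraticMap.polarBilin Q).IsRefl := by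
    intro u v huv
    rw [QuadraticMap.polarBilin_apply_apply] at huv ⊢
    rwa [QuadraticMap.polar_comm]
  have hfr := LinearMap.BilinForm.finrank_orthogonal hB W
  rw [Module.finrank_fintype_fun_eq_card] at hfr
  have hlt : finrank F W < Fintype.card ι := by
    rw [← Module.finrank_fintype_fun_eq_card F (η := ι)]
    exact Submodule.finrank_lt h1
  refine ⟨LinearMap.BilinForm.orthogonal (QuadraticMap.polarBilin Q) W, ?_, by omega, ?_⟩
  · intro hb
    rw [hb, finrank_bot] at hfr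
    omega
  · intro h hh v hv
    rw [LinearMap.BilinForm.mem_orthogonal_iff] at hv ⊢
    intro w hw
    have h2 := hv _ (hinv _ (H.inv_mem hh) w hw)
    rw [QuadraticMap.polarBilin_apply_apply] at h2 ⊢
    have h3 := polar_isom (hH hh) (((h⁻¹ : GL ι F) : Matrix ι ι F) *ᵥ w) v
    rw [Matrix.mulVec_mulVec, ← Units.val_mul, mul_inv_cancel, Units.val_one, Matrix.one_mulVec] at h3
    rw [h3, h2]

end small

section preds

variable [Finite F] {Q : QuadraticForm F (ι → F)}

/-- a set of subspaces stable under isometries -/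
def Stable (Q : QuadraticForm F (ι → F)) (S : Set (Submodule F (ι → F))) : Prop :=
  ∀ g : GL ι F, g ∈ isometryGroup F ⇑Q → ∀ W ∈ S, W.map (Matrix.toLin' (g : Matrix ι ι F)) ∈ S

/-- every `x`-invariant subspace of dimension at most `n / 2` lies in `S` -/
def InvIn (x : GL ι F) (S : Set (Submodule F (ι → F))) : Prop :=
  ∀ W : Submodule F (ι → F), (∀ w ∈ W, (x : Matrix ι ι F) *ᵥ w ∈ W) → 2 * finrank F W ≤ Fintype.card ι → W ∈ S

theorem finrank_map_gl (g : GL ι F) (W : Submodule F (ι → F)) :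
    finrank F (W.map (Matrix.toLin' (g : Matrix ι ι F))) = finrank F W :=
  LinearEquiv.finrank_map_eq (eqv g) W

theorem map_inv_map (g : GL ι F) (W : Submodule F (ι → F)) :
    (W.map (Matrix.toLin' ((g⁻¹ : GL ι F) : Matrix ι ι F))).map (Matrix.toLin' (g : Matrix ι ι F)) = W := by
  rw [← Submodule.map_comp, ← Matrix.toLin'_mul, ← Units.val_mul, mul_inv_cancel, Units.val_one, Matrix.toLin'_one,
    Submodule.map_id]

theorem InvIn.conj {x : GL ι F} {S : Set (Submodule F (ι → F))} (hS : Stable Q S) (h : InvIn x S) {g : GL ι F}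
    (hg : g ∈ isometryGroup F ⇑Q) : InvIn (g * x * g⁻¹) S := by
  intro W hW hd
  rw [← map_inv_map g W]
  refine hS g hg _ (h _ ?_ ?_)
  · rintro _ ⟨w, hw, rfl⟩
    refine ⟨_, hW w hw, ?_⟩
    rw [Matrix.toLin'_apply, Matrix.toLin'_apply, Matrix.mulVec_mulVec, Matrix.mulVec_mulVec, ← Units.val_mul,
      ← Units.val_mul]
    congr 2
    group
  · rwa [finrank_map_gl]

/-- the set of subspaces with dimension in `D` -/
def dimSet (ι : Type) [Fintype ι] (F : Type u) [Field F] (D : Set ℕ) : Set (Submodule F (ι → F)) :=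
  {W | finrank F W ∈ D}

theorem stable_dimSet (D : Set ℕ) : Stable Q (dimSet ι F D) := by
  intro g _ W hW
  change finrank F _ ∈ D
  rw [finrank_map_gl]
  exact hW

/-- a power of `x` of order prime to `r` such that `r` does not divide the dimension of the kernel of a polynomial -/
def KillAt (r : ℕ) (x : GL ι F) : Prop :=
  ∃ (s : ℕ) (P : Polynomial F), (orderOf (x ^ s)).Coprime r ∧
    ¬ r ∣ finrank F (LinearMap.ker (Polynomial.aeval (Matrix.toLin' ((x ^ s : GL ι F) : Matrix ι ι F)) P))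

theorem conjpow (g x : GL ι F) (s : ℕ) : (g * x * g⁻¹) ^ s = g * x ^ s * g⁻¹ := conj_pow

theorem finrank_ker_aeval_conj (g x : GL ι F) (P : Polynomial F) :
    finrank F (LinearMap.ker (Polynomial.aeval (Matrix.toLin' ((g * x * g⁻¹ : GL ι F) : Matrix ι ι F)) P)) =
      finrank F (LinearMap.ker (Polynomial.aeval (Matrix.toLin' (x : Matrix ι ι F)) P)) := by
  let φ : Module.End F (ι → F) ≃ₐ[F] Module.End F (ι → F) := (eqv g).conjAlgEquiv F
  have h1 : Matrix.toLin' ((g * x * g⁻¹ : GL ι F) : Matrix ι ι F) = φ (Matrix.toLin' (x : Matrix ι ι F)) := by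
    rw [toLin_conj]
    rfl
  rw [h1, Polynomial.aeval_algHom_apply]
  have h2 : LinearMap.ker (φ (Polynomial.aeval (Matrix.toLin' (x : Matrix ι ι F)) P)) =
      (LinearMap.ker (Polynomial.aeval (Matrix.toLin' (x : Matrix ι ι F)) P)).map (eqv g : (ι → F) →ₗ[F] (ι → F)) := by
    ext v
    rw [LinearMap.mem_ker]
    change eqv g ((Polynomial.aeval (Matrix.toLin' (x : Matrix ι ι F)) P) ((eqv g).symm v)) = 0 ↔ _
    rw [LinearEquiv.map_eq_zero_iff]
    constructor
    · intro h
      exact ⟨(eqv g).symm v, h, (eqv g).apply_symm_apply v⟩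
    · rintro ⟨w, hw, rfl⟩
      have h3 : (eqv g).symm (eqv g w) = w := (eqv g).symm_apply_apply w
      change (Polynomial.aeval (Matrix.toLin' (x : Matrix ι ι F)) P) ((eqv g).symm (eqv g w)) = 0
      rw [h3]
      exact hw
  rw [h2]
  exact LinearEquiv.finrank_map_eq (eqv g) _

theorem KillAt.conj {r : ℕ} {x : GL ι F} (h : KillAt r x) (g : GL ι F) : KillAt r (g * x * g⁻¹) := by
  obtain ⟨s, P, h1, h2⟩ := h
  refine ⟨s, P, ?_, ?_⟩
  · rwa [conjpow, orderOf_conj]
  · rwa [conjpow, finrank_ker_aeval_conj]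

theorem KillAt.not_mem {r : ℕ} (hr : r.Prime) {x : GL ι F} (h : KillAt r x)
    {E : Subalgebra F (Matrix ι ι F)} (hE : IsFieldSubalgebra r E) : x ∉ subalgebraNormalizer E := by
  intro hx
  obtain ⟨s, P, h1, h2⟩ := h
  exact h2 (Cfsg.Agent.H906.Cov.ext_dvd hr hE (Subgroup.pow_mem _ hx s) h1 P)

/-- a power of `x` is a block of minus type of rank `2 j` with the numerical conditions -/
def NegB (j : ℕ) (x : GL ι F) : Prop :=
  ∃ s : ℕ, Blk (2 * j) (x ^ s) ∧ Odd (orderOf (x ^ s)) ∧ orderOf (x ^ s) ∣ Nat.card F ^ j + 1 ∧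
    Num (Nat.card F) (Fintype.card ι) (2 * j) (orderOf (x ^ s))

theorem NegB.conj {j : ℕ} {x : GL ι F} (h : NegB j x) (g : GL ι F) : NegB j (g * x * g⁻¹) := by
  obtain ⟨s, h1, h2, h3, h4⟩ := h
  refine ⟨s, ?_, ?_, ?_, ?_⟩
  · rw [conjpow]; exact h1.conj g
  · rwa [conjpow, orderOf_conj]
  · rwa [conjpow, orderOf_conj]
  · rwa [conjpow, orderOf_conj]

end preds

/-- the statement OG-O (irreducible overgroups inside `Ω`) -/
def OgO (ι : Type) [Fintype ι] [DecidableEq ι] (F : Type u) [Field F] : Prop :=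
  ∀ (k : ℕ) (Q : (ι → F) → F), IsNondegenerateQuadraticForm Q → ∀ H : Subgroup (GL ι F), H ≤ omegaGL Q →
    H ≠ omegaGL Q → ∀ g ∈ H, Num (Nat.card F) (Fintype.card ι) k (orderOf g) →
      Red H ∨ _root_.Cfsg.Agent.H278.Cov.Ext (Nat.gcd (Fintype.card ι) k) H

section gen

variable [Finite F] {Q : QuadraticForm F (ι → F)}

/-- **The general row.** -/
theorem noTwo_gen [Nonempty ι] (hQ : Nondeg Q) (og : OgO ι F) {j j' : ℕ} (hj : 1 ≤ j) (hj' : 1 ≤ j')
    {S₁ S₂ S₃ : Set (Submodule F (ι → F))} (st₁ : Stable Q S₁) (st₂ : Stable Q S₂) (st₃ : Stable Q S₃)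
    (hA : ∃ x ∈ omegaGL ⇑Q, NegB j x ∧ InvIn x S₁) (hB : ∃ x ∈ omegaGL ⇑Q, NegB j' x ∧ InvIn x S₂)
    (hC : ∃ x ∈ omegaGL ⇑Q, InvIn x S₃ ∧
      ∀ r : ℕ, r.Prime → (r ∣ Nat.gcd (Fintype.card ι) (2 * j) ∨ r ∣ Nat.gcd (Fintype.card ι) (2 * j')) → KillAt r x)
    (h12 : ∀ W ∈ S₁, W ∈ S₂ → W = ⊥) (h13 : ∀ W ∈ S₁, W ∈ S₃ → W = ⊥) (h23 : ∀ W ∈ S₂, W ∈ S₃ → W = ⊥)
    (hpar : Odd (j + j')) (h2 : ∀ r : ℕ, r.Prime → r ∣ Nat.gcd (Fintype.card ι) (2 * j') → r = 2) :
    NoTwo (POmega F ⇑Q) := by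
  have hND := isND hQ
  -- a reducible group
  have hred : ∀ {S S' : Set (Submodule F (ι → F))}, (∀ W ∈ S, W ∈ S' → W = ⊥) → ∀ H : Subgroup (GL ι F),
      H ≤ omegaGL ⇑Q → ∀ x ∈ H, ∀ y ∈ H, InvIn x S → InvIn y S' → ¬ Red H := by
    intro S S' hSS H hH x hx y hy h1 h2 hr
    obtain ⟨W, hW0, hWd, hW⟩ := exists_small hQ (hH.trans omegaGL_le) hr
    exact hW0 (hSS W (h1 W (hW x hx) hWd) (h2 W (hW y hy) hWd))
  refine noTwo_frame (P₁ := fun x => NegB j x ∧ InvIn x S₁) (P₂ := fun x => NegB j' x ∧ InvIn x S₂)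
    (P₃ := fun x => InvIn x S₃ ∧
      ∀ r : ℕ, r.Prime → (r ∣ Nat.gcd (Fintype.card ι) (2 * j) ∨ r ∣ Nat.gcd (Fintype.card ι) (2 * j')) → KillAt r x)
    (fun x g hg h => ⟨h.1.conj g, h.2.conj st₁ (omegaGL_le hg)⟩)
    (fun x g hg h => ⟨h.1.conj g, h.2.conj st₂ (omegaGL_le hg)⟩)
    (fun x g hg h => ⟨h.1.conj st₃ (omegaGL_le hg), fun r hr hd => (h.2 r hr hd).conj g⟩)
    hA hB hC ?_ ?_ ?_
  · intro H hH hne x hx y hy hX hY
    have hirr := hred h12 H hH x hx y hy hX.2 hY.2
    obtain ⟨⟨s, b1, b2, b3, b4⟩, -⟩ := hX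
    obtain ⟨⟨t, c1, c2, c3, c4⟩, -⟩ := hY
    rcases og _ _ hND H hH hne (y ^ t) (H.pow_mem hy t) c4 with h | ⟨r, E, hr, hrd, hE, hN⟩
    · exact hirr h
    · obtain rfl := h2 r hr hrd
      have hI := hH.trans omegaGL_le
      rcases Nat.even_or_odd j with h3 | h3
      · have h4 : Odd j' := by
          rw [← Nat.not_even_iff_odd]
          intro h
          exact (Nat.not_even_iff_odd.2 hpar) (h3.add h)
        exact parity hND hI hirr hE hN (H.pow_mem hx s) (H.pow_mem hy t) hj hj' h3 h4 b2 c2 b3 c3 b1 c1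
      · have h4 : Even j' := by
          rw [← Nat.not_odd_iff_even]
          intro h
          exact (Nat.not_even_iff_odd.2 hpar) (h3.add_odd h)
        exact parity hND hI hirr hE hN (H.pow_mem hy t) (H.pow_mem hx s) hj' hj h4 h3 c2 b2 c3 b3 c1 b1
  · intro H hH hne x hx y hy hX hY
    have hirr := hred h23 H hH x hx y hy hX.2 hY.1
    obtain ⟨⟨s, b1, b2, b3, b4⟩, -⟩ := hX
    rcases og _ _ hND H hH hne (x ^ s) (H.pow_mem hx s) b4 with h | ⟨r, E, hr, hrd, hE, hN⟩
    · exact hirr h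
    · exact (hY.2 r hr (Or.inr hrd)).not_mem hr hE (hN hy)
  · intro H hH hne x hx y hy hX hY
    have hirr := hred h13 H hH x hx y hy hX.2 hY.1
    obtain ⟨⟨s, b1, b2, b3, b4⟩, -⟩ := hX
    rcases og _ _ hND H hH hne (x ^ s) (H.pow_mem hx s) b4 with h | ⟨r, E, hr, hrd, hE, hN⟩
    · exact hirr h
    · exact (hY.2 r hr (Or.inl hrd)).not_mem hr hE (hN hy)

end gen

end Cfsg.Agent.H688.Cov
end

-- part: H688/Cov/Model
section
/-!
# S2499, orthogonal groups: elements of `omegaGL Q` from isometries of abstract quadratic spaces (helper688)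

* `exists_gl` : an isometry `T` of `(V', Q')`, `e : (ι → F) ≃ V'` an isometry: an element `x` of the isometry group with
  `toLin' x = e⁻¹ T e`;
* `mem_omegaGL_of_odd`, `mem_omegaGL_of_sq`;
* `IsM e x T` : `toLin' x = e⁻¹ T e`, with its consequences (powers, orders, kernels, invariant subspaces).
-/

set_option autoImplicit false
set_option linter.unusedSectionVars false

namespace Cfsg.Agent.H688.Cov

open Cfsg Cfsg.Geo Module
open Cfsg.Agent.H278.Cov Cfsg.Agent.H383.Cov
open Cfsg.Agent.LieClassical.OrthCore (Nondeg)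
open scoped MatrixGroups Matrix

universe u v

variable {ι : Type} [Fintype ι] [DecidableEq ι] {F : Type u} [Field F] [Finite F]

/-- `x` is `T` in the coordinates `e` -/
def IsM {V : Type v} [AddCommGroup V] [Module F V] (e : (ι → F) ≃ₗ[F] V) (x : GL ι F) (T : Module.End F V) : Prop :=
  Matrix.toLin' (x : Matrix ι ι F) = e.symm.conjAlgEquiv F T

section

variable {V : Type v} [AddCommGroup V] [Module F V] {e : (ι → F) ≃ₗ[F] V} {x y : GL ι F} {T S : Module.End F V}

theorem IsM.apply (h : IsM e x T) (v : ι → F) : (x : Matrix ι ι F) *ᵥ v = e.symm (T (e v)) := by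
  rw [← Matrix.toLin'_apply, h]
  rfl

theorem isM_of_apply (h : ∀ v, (x : Matrix ι ι F) *ᵥ v = e.symm (T (e v))) : IsM e x T := by
  apply LinearMap.ext
  intro v
  rw [Matrix.toLin'_apply, h]
  rfl

theorem IsM.mul (h : IsM e x T) (h' : IsM e y S) : IsM e (x * y) (T * S) := by
  rw [IsM, map_mul, ← h, ← h', Units.val_mul, Matrix.toLin'_mul]
  rfl

theorem isM_one : IsM e (1 : GL ι F) 1 := by
  rw [IsM, map_one, Units.val_one, Matrix.toLin'_one]
  rfl

theorem IsM.pow (h : IsM e x T) (s : ℕ) : IsM e (x ^ s) (T ^ s) := by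
  induction s with
  | zero => rw [pow_zero, pow_zero]; exact isM_one
  | succ s ih => rw [pow_succ, pow_succ]; exact ih.mul h

theorem IsM.eq_one_iff (h : IsM e x T) : x = 1 ↔ T = 1 := by
  constructor
  · rintro rfl
    have h1 : (e.symm.conjAlgEquiv F) T = 1 := by
      rw [← h, Units.val_one, Matrix.toLin'_one]
      rfl
    exact (e.symm.conjAlgEquiv F).injective (h1.trans (map_one _).symm)
  · rintro rfl
    apply Units.ext
    apply Matrix.toLin'.injective
    rw [h, map_one, Units.val_one, Matrix.toLin'_one]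
    rfl

theorem IsM.orderOf (h : IsM e x T) : orderOf x = orderOf T := by
  rw [orderOf_eq_orderOf_iff]
  intro n
  exact (h.pow n).eq_one_iff

/-- kernels of polynomials -/
theorem IsM.finrank_ker (h : IsM e x T) (P : Polynomial F) :
    finrank F (LinearMap.ker (Polynomial.aeval (Matrix.toLin' (x : Matrix ι ι F)) P)) =
      finrank F (LinearMap.ker (Polynomial.aeval T P)) := by
  rw [h, Polynomial.aeval_algHom_apply]
  have h2 : LinearMap.ker (e.symm.conjAlgEquiv F (Polynomial.aeval T P)) =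
      (LinearMap.ker (Polynomial.aeval T P)).map (e.symm : V →ₗ[F] (ι → F)) := by
    ext v
    rw [LinearMap.mem_ker]
    change e.symm ((Polynomial.aeval T P) (e v)) = 0 ↔ _
    rw [LinearEquiv.map_eq_zero_iff]
    constructor
    · intro h
      exact ⟨e v, h, e.symm_apply_apply v⟩
    · rintro ⟨w, hw, rfl⟩
      change (Polynomial.aeval T P) (e (e.symm w)) = 0
      rw [e.apply_symm_apply]
      exact hw
  rw [h2]
  exact LinearEquiv.finrank_map_eq e.symm _

/-- the rank of `x - 1` -/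
theorem IsM.finrank_range (h : IsM e x T) :
    finrank F (LinearMap.range (Matrix.toLin' (x : Matrix ι ι F) - 1)) = finrank F (LinearMap.range (T - 1)) := by
  have h1 : Matrix.toLin' (x : Matrix ι ι F) - 1 = e.symm.conjAlgEquiv F (T - 1) := by
    rw [map_sub, ← h, map_one]
  have h2 : LinearMap.range (e.symm.conjAlgEquiv F (T - 1)) =
      (LinearMap.range (T - 1)).map (e.symm : V →ₗ[F] (ι → F)) := by
    ext v
    constructor
    · rintro ⟨w, rfl⟩
      exact ⟨(T - 1) (e w), ⟨e w, rfl⟩, rfl⟩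
    · rintro ⟨_, ⟨w, rfl⟩, rfl⟩
      refine ⟨e.symm w, ?_⟩
      change e.symm ((T - 1) (e (e.symm w))) = e.symm ((T - 1) w)
      rw [e.apply_symm_apply]
  rw [h1, h2]
  exact LinearEquiv.finrank_map_eq e.symm _

/-- the invariant subspaces of `x` are those of `T` -/
theorem IsM.inv_map (h : IsM e x T) {W : Submodule F (ι → F)} (hW : ∀ w ∈ W, (x : Matrix ι ι F) *ᵥ w ∈ W) :
    ∀ w ∈ W.map (e : (ι → F) →ₗ[F] V), T w ∈ W.map (e : (ι → F) →ₗ[F] V) := by
  rintro _ ⟨w, hw, rfl⟩
  refine ⟨_, hW w hw, ?_⟩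
  rw [h.apply]
  exact e.apply_symm_apply _

theorem finrank_map_e (W : Submodule F (ι → F)) : finrank F (W.map (e : (ι → F) →ₗ[F] V)) = finrank F W :=
  LinearEquiv.finrank_map_eq e _

variable {Q : QuadraticForm F (ι → F)} {Q' : QuadraticForm F V}

/-- an isometry gives an element of the isometry group -/
theorem exists_gl (hQ : Nondeg Q) (he : ∀ u, Q' (e u) = Q u) (hT : ∀ v, Q' (T v) = Q' v) :
    ∃ x : GL ι F, x ∈ isometryGroup F ⇑Q ∧ IsM e x T := by
  classical
  let φ : Module.End F V ≃ₐ[F] Matrix ι ι F := (e.symm.conjAlgEquiv F).trans LinearMap.toMatrixAlgEquiv'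
  have hφ : ∀ x : ι → F, (φ T).mulVec x = e.symm (T (e x)) := by
    intro x
    change (LinearMap.toMatrix' (e.symm.conj T)).mulVec x = _
    rw [LinearMap.toMatrix'_mulVec]
    rfl
  have hM : ∀ x, Q ((φ T).mulVec x) = Q x := by
    intro x
    rw [← he, ← he, hφ, e.apply_symm_apply, hT]
  have hinj : ∀ x, (φ T).mulVec x = 0 → x = 0 := by
    intro x hx
    apply hQ
    intro y
    have h1 : QuadraticMap.polar Q ((φ T).mulVec x) ((φ T).mulVec y) = QuadraticMap.polar Q x y := by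
      rw [QuadraticMap.polar, QuadraticMap.polar, ← Matrix.mulVec_add, hM, hM, hM]
    rw [← h1, hx]
    simp [QuadraticMap.polar]
  have hunit : IsUnit (φ T) := by
    rw [← Matrix.mulVec_injective_iff_isUnit]
    intro x y hxy
    have h1 : (φ T).mulVec (x - y) = 0 := by
      rw [Matrix.mulVec_sub]
      exact sub_eq_zero.2 hxy
    exact sub_eq_zero.1 (hinj _ h1)
  obtain ⟨M, hM'⟩ := hunit
  refine ⟨M, ?_, isM_of_apply fun v => by rw [hM', hφ]⟩
  rw [Cfsg.Agent.LieClassical.OrthFinite.mem_isometryGroup_iff]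
  intro x
  rw [hM']
  exact hM x

theorem mul_self_mem (hQ : Nondeg Q) (h5 : 5 ≤ Fintype.card ι) {x : GL ι F} (hx : x ∈ isometryGroup F ⇑Q) :
    x * x ∈ omegaGL ⇑Q :=
  ⟨_, Cfsg.Agent.H377.mul_self_mem_Omega Q hQ h5 ⟨x, hx⟩, rfl⟩

/-- isometries of odd order lie in `Ω` -/
theorem mem_of_odd (hQ : Nondeg Q) (h5 : 5 ≤ Fintype.card ι) {x : GL ι F} (hx : x ∈ isometryGroup F ⇑Q)
    (ho : Odd (_root_.orderOf x)) : x ∈ omegaGL ⇑Q := by
  obtain ⟨k, hk⟩ := ho
  have h1 : x = x ^ (k + 1) * x ^ (k + 1) := by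
    rw [← pow_add, show k + 1 + (k + 1) = (2 * k + 1) + 1 by ring, ← hk, pow_succ, pow_orderOf_eq_one, one_mul]
  rw [h1]
  exact mul_self_mem hQ h5 (Subgroup.pow_mem _ hx _)

/-- **elements of `Ω` of odd order from isometries** -/
theorem exists_odd (hQ : Nondeg Q) (h5 : 5 ≤ Fintype.card ι) (he : ∀ u, Q' (e u) = Q u) (hT : ∀ v, Q' (T v) = Q' v)
    (ho : Odd (_root_.orderOf T)) : ∃ x ∈ omegaGL ⇑Q, IsM e x T := by
  obtain ⟨x, hx, hxT⟩ := exists_gl hQ he hT
  exact ⟨x, mem_of_odd hQ h5 hx (by rwa [hxT.orderOf]), hxT⟩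

/-- **elements of `Ω` from squares of isometries** -/
theorem exists_sq (hQ : Nondeg Q) (h5 : 5 ≤ Fintype.card ι) (he : ∀ u, Q' (e u) = Q u) {R : Module.End F V}
    (hR : ∀ v, Q' (R v) = Q' v) (hRT : R * R = T) : ∃ x ∈ omegaGL ⇑Q, IsM e x T := by
  obtain ⟨x, hx, hxR⟩ := exists_gl hQ he hR
  refine ⟨x * x, mul_self_mem hQ h5 hx, ?_⟩
  rw [← hRT]
  exact hxR.mul hxR

end

end Cfsg.Agent.H688.Cov
end

-- part: H688/Cov/Blocks
section
/-!
# S2499, orthogonal groups: blocks (helper688)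

* `ker_sub_one` : an element of order prime to `q`, `q ^ i - 1` (`i < k`) has no fixed vector on a space of dimension `k`;
* products `S.prodMap T` : kernels of polynomials, `fst_zero`, `snd_zero`;
* `exists_pos` : the block of plus type of dimension `2 a`, `a` odd: an isometry of prime order `l` (a primitive prime
  divisor of `q ^ a - 1`) without fixed vector and a polynomial with kernel of dimension `a`;
* `exists_neg`, `exists_num_minus`.
-/

set_option autoImplicit false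
set_option linter.unusedSectionVars false

namespace Cfsg.Agent.H688.Cov

open Cfsg Cfsg.Geo Module Polynomial
open Cfsg.Agent.H278.Cov Cfsg.Agent.H383.Cov
open Cfsg.Agent.LieClassical.OrthCore (Nondeg)
open Cfsg.Agent.H377 (HasSign sumQ sumQ_apply sumQ_nondeg hypQ hypQ_apply hypQ_nondeg hasSign_mul Elt elt_tor_minus
  prodMap_pow' prodMap_eq_one_iff orderOf_prodMap)
open Cfsg.Agent.H689 (Ppd)

universe u v w

section lin

variable {F : Type u} [Field F] [Finite F] {V : Type v} [AddCommGroup V] [Module F V] [FiniteDimensional F V]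

theorem ker_sub_one {T : Module.End F V} {M k : ℕ} (hT : T ^ M = 1) (hq : M.Coprime (Nat.card F))
    (hM : ∀ i, 1 ≤ i → i < k → M.Coprime (Nat.card F ^ i - 1)) (hk : finrank F V = k) (hne : T ≠ 1) :
    LinearMap.ker (T - 1) = ⊥ := by
  by_contra hb
  have h0 : 0 < finrank F (LinearMap.ker (T - 1)) := by
    rw [Nat.pos_iff_ne_zero]
    intro h
    exact hb (Submodule.finrank_eq_zero.1 h)
  have h1 := LinearMap.finrank_range_add_finrank_ker (T - 1)
  have hinv : ∀ w ∈ LinearMap.range (T - 1), T w ∈ LinearMap.range (T - 1) := by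
    rintro _ ⟨v, rfl⟩
    refine ⟨T v, ?_⟩
    rw [← Module.End.mul_apply, ← Module.End.mul_apply, sub_mul, mul_sub, one_mul, mul_one]
  apply hne
  rw [← sub_eq_zero]
  apply LinearMap.ext
  intro v
  exact eq_zero_of_fix hT hq (v := v) rfl (fix_of_lt hT hq hM hinv (by omega) ⟨v, rfl⟩)

theorem fix_eq_zero {T : Module.End F V} (h : LinearMap.ker (T - 1) = ⊥) {v : V} (hv : T v = v) : v = 0 := by
  have h1 : v ∈ LinearMap.ker (T - 1) := by
    rw [LinearMap.mem_ker, LinearMap.sub_apply, hv, Module.End.one_apply, sub_self]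
  rw [h] at h1
  exact (Submodule.mem_bot F).1 h1

theorem finrank_range_of_ker {T : Module.End F V} (h : LinearMap.ker (T - 1) = ⊥) :
    finrank F (LinearMap.range (T - 1)) = finrank F V := by
  have h1 := LinearMap.finrank_range_add_finrank_ker (T - 1)
  rw [h, finrank_bot, add_zero] at h1
  exact h1

end lin

section prod

variable {F : Type u} [Field F] [Finite F] {V : Type v} [AddCommGroup V] [Module F V] [FiniteDimensional F V]
  {V' : Type w} [AddCommGroup V'] [Module F V'] [FiniteDimensional F V']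

theorem aeval_prodMap (S : Module.End F V) (T : Module.End F V') (P : F[X]) :
    aeval (S.prodMap T : Module.End F (V × V')) P = (aeval S P).prodMap (aeval T P) := by
  induction P using Polynomial.induction_on' with
  | add p q hp hq => rw [map_add, map_add, map_add, hp, hq]; rfl
  | monomial n a =>
    rw [aeval_monomial, aeval_monomial, aeval_monomial, prodMap_pow']
    rfl

theorem finrank_submodule_prod (A : Submodule F V) (B : Submodule F V') :
    finrank F (A.prod B) = finrank F A + finrank F B := by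
  rw [← Module.finrank_prod]
  exact LinearEquiv.finrank_eq
    { toFun := fun x => (⟨x.1.1, x.2.1⟩, ⟨x.1.2, x.2.2⟩)
      invFun := fun x => ⟨(x.1.1, x.2.1), ⟨x.1.2, x.2.2⟩⟩
      map_add' := fun _ _ => rfl
      map_smul' := fun _ _ => rfl
      left_inv := fun _ => rfl
      right_inv := fun _ => rfl }

theorem finrank_ker_prodMap (S : Module.End F V) (T : Module.End F V') (P : F[X]) :
    finrank F (LinearMap.ker (aeval (S.prodMap T : Module.End F (V × V')) P)) =
      finrank F (LinearMap.ker (aeval S P)) + finrank F (LinearMap.ker (aeval T P)) := by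
  rw [aeval_prodMap, LinearMap.ker_prodMap, finrank_submodule_prod]

theorem finrank_ker_aeval_one (P : F[X]) (h : P.eval 1 ≠ 0) :
    finrank F (LinearMap.ker (aeval (1 : Module.End F V) P)) = 0 := by
  have h1 : aeval (1 : Module.End F V) P = (P.eval 1) • (1 : Module.End F V) := by
    have h2 := aeval_algebraMap_apply (Module.End F V) (1 : F) P
    rw [map_one] at h2
    rw [h2, Algebra.algebraMap_eq_smul_one]
    rfl
  rw [h1, Submodule.finrank_eq_zero, LinearMap.ker_eq_bot']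
  intro v hv
  exact (smul_eq_zero.1 hv).resolve_left h

theorem finrank_range_prod_one (S : Module.End F V) :
    finrank F (LinearMap.range ((S.prodMap (1 : Module.End F V') : Module.End F (V × V')) - 1)) =
      finrank F (LinearMap.range (S - 1)) := by
  have h1 : (S.prodMap (1 : Module.End F V') : Module.End F (V × V')) - 1 = (S - 1).prodMap 0 := by
    apply LinearMap.ext
    intro v
    refine Prod.ext rfl ?_
    change v.2 - v.2 = 0
    rw [sub_self]
  rw [h1, LinearMap.range_prodMap, finrank_submodule_prod, LinearMap.range_zero, finrank_bot, add_zero]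

/-- exponents separating the two blocks -/
theorem exists_sep {S : Module.End F V} {T : Module.End F V'} {M N : ℕ} (hS : S ^ M = 1) (hT : T ^ N = 1)
    (hMN : M.Coprime N) : ∃ s : ℕ, S ^ s = S ∧ T ^ s = 1 := by
  obtain ⟨s, h1, h2⟩ := Nat.chineseRemainder hMN 1 0
  refine ⟨s, ?_, ?_⟩
  · have h3 : s ≡ 1 [MOD orderOf S] := h1.of_dvd (orderOf_dvd_of_pow_eq_one hS)
    have h4 := pow_eq_pow_of_modEq h3 (pow_orderOf_eq_one S)
    rwa [pow_one] at h4
  · obtain ⟨c, rfl⟩ := (Nat.modEq_zero_iff_dvd).1 h2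
    rw [pow_mul, hT, one_pow]

/-- a small invariant subspace has trivial first components -/
theorem fst_zero {S : Module.End F V} {T : Module.End F V'} {s M k : ℕ} (hs : S ^ s = S) (ht : T ^ s = 1)
    (hS : S ^ M = 1) (hq : M.Coprime (Nat.card F)) (hM : ∀ i, 1 ≤ i → i < k → M.Coprime (Nat.card F ^ i - 1))
    (hker : LinearMap.ker (S - 1) = ⊥) {W : Submodule F (V × V')} (hk : finrank F W < k)
    (hW : ∀ w ∈ W, (S.prodMap T) w ∈ W) {w : V × V'} (hw : w ∈ W) : w.1 = 0 := by
  let X : Module.End F (V × V') := S.prodMap (1 : Module.End F V')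
  have hX : ((S.prodMap T : Module.End F (V × V')) ^ s) = X := by
    rw [prodMap_pow', hs, ht]
  have hX1 : X ^ M = 1 := by
    change (S.prodMap (1 : Module.End F V') : Module.End F (V × V')) ^ M = 1
    rw [prodMap_pow', hS, one_pow]
    rfl
  have hXW : ∀ w ∈ W, X w ∈ W := by
    intro w hw
    rw [← hX]
    have : ∀ n : ℕ, ∀ w ∈ W, ((S.prodMap T : Module.End F (V × V')) ^ n) w ∈ W := by
      intro n
      induction n with
      | zero => exact fun w hw => hw
      | succ n ih => intro w hw; rw [pow_succ, Module.End.mul_apply]; exact ih _ (hW w hw)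
    exact this s w hw
  have h1 := fix_of_lt hX1 hq hM hXW hk hw
  exact fix_eq_zero hker (congrArg Prod.fst h1)

theorem snd_zero {S : Module.End F V} {T : Module.End F V'} {s M k : ℕ} (hs : S ^ s = 1) (ht : T ^ s = T)
    (hT : T ^ M = 1) (hq : M.Coprime (Nat.card F)) (hM : ∀ i, 1 ≤ i → i < k → M.Coprime (Nat.card F ^ i - 1))
    (hker : LinearMap.ker (T - 1) = ⊥) {W : Submodule F (V × V')} (hk : finrank F W < k)
    (hW : ∀ w ∈ W, (S.prodMap T) w ∈ W) {w : V × V'} (hw : w ∈ W) : w.2 = 0 := by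
  let X : Module.End F (V × V') := (1 : Module.End F V).prodMap T
  have hX : ((S.prodMap T : Module.End F (V × V')) ^ s) = X := by
    rw [prodMap_pow', hs, ht]
  have hX1 : X ^ M = 1 := by
    change ((1 : Module.End F V).prodMap T : Module.End F (V × V')) ^ M = 1
    rw [prodMap_pow', hT, one_pow]
    rfl
  have hXW : ∀ w ∈ W, X w ∈ W := by
    intro w hw
    rw [← hX]
    have : ∀ n : ℕ, ∀ w ∈ W, ((S.prodMap T : Module.End F (V × V')) ^ n) w ∈ W := by
      intro n
      induction n with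
      | zero => exact fun w hw => hw
      | succ n ih => intro w hw; rw [pow_succ, Module.End.mul_apply]; exact ih _ (hW w hw)
    exact this s w hw
  have h1 := fix_of_lt hX1 hq hM hXW hk hw
  exact fix_eq_zero hker (congrArg Prod.snd h1)

end prod

section pos

variable {F : Type u} [Field F] [Finite F]

/-- the block of plus type -/
structure PosB (F : Type u) [Field F] [Finite F] (a l : ℕ) (V : Type v) [AddCommGroup V] [Module F V] [Finite V]
    (Q : QuadraticForm F V) (T : Module.End F V) (P : F[X]) : Prop where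
  dim : finrank F V = 2 * a
  nd : Nondeg Q
  sign : HasSign (⇑Q) a 1
  isom : ∀ v, Q (T v) = Q v
  order : orderOf T = l
  fix : LinearMap.ker (T - 1) = ⊥
  one : P.eval 1 ≠ 0
  ker : finrank F (LinearMap.ker (aeval T P)) = a

variable {K : Type w} [Field K] [Finite K] [Algebra F K]

/-- the hyperbolic form `tr (u v)` -/
noncomputable def trQ (F : Type u) (K : Type w) [Field F] [Field K] [Algebra F K] : QuadraticForm F (K × K) :=
  (Algebra.trace F K).compQuadraticMap' (hypQ K)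

theorem trQ_apply (v : K × K) : trQ F K v = Algebra.trace F K (v.1 * v.2) := rfl

theorem trQ_nondeg : Nondeg (trQ F K) := by
  have : Module.Finite F K := Module.Finite.of_finite
  intro x hx
  obtain ⟨t, ht⟩ := Algebra.trace_surjective F K 1
  have h1 : ∀ y, Algebra.trace F K (x.1 * y) = 0 := by
    intro y
    have h2 := hx (0, y)
    simp only [QuadraticMap.polar, trQ_apply, Prod.fst_add, Prod.snd_add, add_zero, zero_mul, map_zero, sub_zero] at h2
    rw [mul_add, map_add] at h2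
    linear_combination h2
  have h2 : ∀ y, Algebra.trace F K (y * x.2) = 0 := by
    intro y
    have h2 := hx (y, 0)
    simp only [QuadraticMap.polar, trQ_apply, Prod.fst_add, Prod.snd_add, add_zero, mul_zero, map_zero, sub_zero] at h2
    rw [add_mul, map_add] at h2
    linear_combination h2
  refine Prod.ext ?_ ?_
  · by_contra hne
    have h3 := h1 ((x.1)⁻¹ * t)
    rw [← mul_assoc, mul_inv_cancel₀ hne, one_mul, ht] at h3
    exact one_ne_zero h3
  · by_contra hne
    have h3 := h2 (t * (x.2)⁻¹)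
    rw [mul_assoc, inv_mul_cancel₀ hne, mul_one, ht] at h3
    exact one_ne_zero h3

/-- multiplication by `lam` and `lam⁻¹` -/
noncomputable def mulT (F : Type u) {K : Type w} [Field F] [Field K] [Algebra F K] (c : K) : Module.End F (K × K) :=
  (Algebra.lmul F K c).prodMap (Algebra.lmul F K c⁻¹)

theorem mulT_apply (c : K) (v : K × K) : mulT F c v = (c * v.1, c⁻¹ * v.2) := rfl

open scoped Classical in
theorem finrank_ker_lmul [FiniteDimensional F K] (c : K) :
    finrank F (LinearMap.ker (Algebra.lmul F K c)) = if c = 0 then finrank F K else 0 := by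
  split_ifs with h
  · rw [h, map_zero, LinearMap.ker_zero, finrank_top]
  · rw [Submodule.finrank_eq_zero, LinearMap.ker_eq_bot']
    intro v hv
    exact (mul_eq_zero.1 hv).resolve_left h

open scoped Classical in
theorem finrank_ker_mulT [FiniteDimensional F K] (c : K) (P : F[X]) :
    finrank F (LinearMap.ker (aeval (mulT F c) P)) =
      (if aeval c P = 0 then finrank F K else 0) + (if aeval c⁻¹ P = 0 then finrank F K else 0) := by
  rw [mulT, finrank_ker_prodMap, aeval_algHom_apply, aeval_algHom_apply, finrank_ker_lmul, finrank_ker_lmul]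

theorem sigma_pow (σ : K ≃ₐ[F] K) {c : K} (h : σ (σ c) = c) : ∀ n : ℕ, (σ ^ (2 * n)) c = c := by
  intro n
  induction n with
  | zero => rw [mul_zero, pow_zero]; rfl
  | succ n ih =>
    rw [show 2 * (n + 1) = 2 * n + 1 + 1 by ring, pow_succ, pow_succ, AlgEquiv.mul_apply, AlgEquiv.mul_apply, h, ih]

/-- **the block of plus type** -/
theorem posB {a l : ℕ} (ha : Odd a) (hK : finrank F K = a) (hl : l.Prime) (hl2 : l ≠ 2) {c : K} (hc0 : c ≠ 0)
    (hc : orderOf c = l) : PosB F a l (K × K) (trQ F K) (mulT F c) (minpoly F c) := by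
  have : Module.Finite F K := Module.Finite.of_finite
  have hint : IsIntegral F c := Algebra.IsIntegral.isIntegral c
  have hc1 : c ≠ 1 := by
    rintro rfl
    rw [orderOf_one] at hc
    exact hl.one_lt.ne hc
  refine ⟨?_, trQ_nondeg, ?_, ?_, ?_, ?_, ?_, ?_⟩
  · rw [Module.finrank_prod, hK]
    ring
  · have h := (hasSign_mul (F := K)).res (F := F)
    rw [hK, mul_one] at h
    exact h
  · intro v
    rw [trQ_apply, trQ_apply, mulT_apply]
    congr 1
    change c * v.1 * (c⁻¹ * v.2) = v.1 * v.2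
    field_simp
  · rw [← hc, orderOf_eq_orderOf_iff]
    intro n
    have h1 : (mulT F c) ^ n = (Algebra.lmul F K (c ^ n)).prodMap (Algebra.lmul F K ((c⁻¹) ^ n)) := by
      rw [mulT, prodMap_pow', ← map_pow, ← map_pow]
    rw [h1, prodMap_eq_one_iff]
    constructor
    · rintro ⟨h, -⟩
      have h2 := LinearMap.congr_fun h (1 : K)
      change c ^ n * 1 = 1 at h2
      rwa [mul_one] at h2
    · intro h
      rw [inv_pow, h, inv_one, map_one]
      exact ⟨rfl, rfl⟩
  · rw [LinearMap.ker_eq_bot']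
    intro v hv
    have h1 : c * v.1 - v.1 = 0 := congrArg Prod.fst hv
    have h2 : c⁻¹ * v.2 - v.2 = 0 := congrArg Prod.snd hv
    refine Prod.ext ?_ ?_
    · have h3 : (c - 1) * v.1 = 0 := by linear_combination h1
      exact (mul_eq_zero.1 h3).resolve_left (sub_ne_zero.2 hc1)
    · have h3 : (c⁻¹ - 1) * v.2 = 0 := by linear_combination h2
      refine (mul_eq_zero.1 h3).resolve_left (sub_ne_zero.2 ?_)
      rw [Ne, inv_eq_one]
      exact hc1
  · intro h
    have h1 : aeval (1 : K) (minpoly F c) = 0 := by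
      have h2 := aeval_algebraMap_apply K (1 : F) (minpoly F c)
      rw [map_one] at h2
      rw [h2]
      have h3 : aeval (1 : F) (minpoly F c) = 0 := h
      rw [h3, map_zero]
    obtain ⟨σ, hσ⟩ := isConjRoot_iff_exists_algEquiv.1 (isConjRoot_of_aeval_eq_zero hint h1)
    rw [map_one] at hσ
    exact hc1 hσ.symm
  · rw [finrank_ker_mulT, minpoly.aeval, if_pos rfl, if_neg, add_zero, hK]
    intro h1
    obtain ⟨σ, hσ⟩ := isConjRoot_iff_exists_algEquiv.1 (isConjRoot_of_aeval_eq_zero hint h1)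
    have hσ2 : σ c = c⁻¹ := by
      have h2 : σ c⁻¹ = c := hσ
      rw [map_inv₀] at h2
      rw [← inv_inv (σ c), h2]
    have hσ3 : σ (σ c) = c := by rw [hσ2, map_inv₀, hσ2, inv_inv]
    have hσa : σ ^ a = 1 := by
      have h4 : Nat.card (K ≃ₐ[F] K) = a := by rw [IsGalois.card_aut_eq_finrank, hK]
      rw [← h4]
      exact pow_card_eq_one'
    obtain ⟨k, rfl⟩ := ha
    have h5 := sigma_pow σ hσ3 k
    have h6 : (σ ^ (2 * k + 1)) c = c := by rw [hσa]; rfl
    rw [pow_succ', AlgEquiv.mul_apply, h5] at h6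
    rw [hσ2] at h6
    have h7 : c ^ 2 = 1 := by
      rw [pow_two]
      nth_rewrite 1 [← h6]
      exact inv_mul_cancel₀ hc0
    have h8 : l ∣ 2 := by
      rw [← hc]
      exact orderOf_dvd_of_pow_eq_one h7
    exact hl2 ((Nat.prime_dvd_prime_iff_eq hl Nat.prime_two).1 h8)

end pos

section exist

variable (F : Type u) [Field F] [Finite F]

/-- **existence of the block of plus type** -/
theorem exists_pos {a l : ℕ} (ha : Odd a) (hl : Ppd (Nat.card F) a l) (hl2 : l ≠ 2) :
    ∃ (V : Type) (_ : AddCommGroup V) (_ : Module F V) (_ : Finite V) (Q : QuadraticForm F V) (T : Module.End F V)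
      (P : F[X]), PosB F a l V Q T P := by
  obtain ⟨p, _⟩ := CharP.exists F
  have : Fact p.Prime := ⟨CharP.char_is_prime F p⟩
  have : NeZero a := ⟨by obtain ⟨k, rfl⟩ := ha; omega⟩
  have hK := FiniteField.finrank_extension (k := F) (p := p) (n := a)
  have hcard : Nat.card (FiniteField.Extension F p a)ˣ = Nat.card F ^ a - 1 := by
    rw [Nat.card_units, FiniteField.natCard_extension]
  have : Fact l.Prime := ⟨hl.prime⟩
  obtain ⟨c, hc⟩ := exists_prime_orderOf_dvd_card' (G := (FiniteField.Extension F p a)ˣ) l (by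
    rw [hcard]
    exact (hl.iff a).2 dvd_rfl)
  have hc' : orderOf (c : FiniteField.Extension F p a) = l := by rw [orderOf_units, hc]
  exact ⟨_, _, _, inferInstance, _, _, _, posB (F := F) (K := FiniteField.Extension F p a) ha hK hl.prime hl2
    (Units.ne_zero c) hc'⟩

end exist

end Cfsg.Agent.H688.Cov
end

-- part: H688/Cov/Elems
section
/-!
# S2499, orthogonal groups: the elements of the rows (helper688)

* `Mod Q m ε` : every nondegenerate form of dimension `2 m` and type `ε` is isometric to `Q`;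
* `exists_negB` : the element `neg j + T₂` of `omegaGL Q`;
* `exists_pn` : the element `pos a + T₂` of `omegaGL Q`, `a` odd.
-/

set_option autoImplicit false
set_option linter.unusedSectionVars false

namespace Cfsg.Agent.H688.Cov

open Cfsg Cfsg.Geo Module Polynomial
open Cfsg.Agent.H278.Cov Cfsg.Agent.H383.Cov
open Cfsg.Agent.LieClassical.OrthCore (Nondeg)
open Cfsg.Agent.H377 (HasSign sumQ sumQ_apply sumQ_nondeg Elt elt_tor_minus prodMap_pow' orderOf_prodMap)
open Cfsg.Agent.H689 (Ppd)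
open scoped MatrixGroups Matrix

universe v

section num

theorem num_facts {q n j N : ℕ} (hq : 2 ≤ q) (h : Num q n (2 * j) N) :
    N ∣ q ^ j + 1 ∧ Odd N ∧ N.Coprime q ∧ 1 < N ∧ 1 ≤ j := by
  have hj : 1 ≤ j := by
    have h1 := h.ten
    have h2 := h.lt
    omega
  have h1 : N ∣ (q ^ j - 1) * (q ^ j + 1) := by
    have h2 : (q ^ j - 1) * (q ^ j + 1) = q ^ (2 * j) - 1 := by
      have h3 := Nat.sq_sub_sq (q ^ j) 1
      rw [one_pow, ← pow_mul, mul_comm j 2] at h3
      rw [h3, mul_comm]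
    rw [h2]
    exact h.dvd
  have hqj : 1 ≤ q ^ (2 * j) := Nat.one_le_pow _ _ (by omega)
  have hcq : N.Coprime q := by
    rw [Nat.coprime_comm]
    have h3 : (q ^ (2 * j)).Coprime (q ^ (2 * j) - 1) := by
      have h4 : (q ^ (2 * j) - 1 + 1).Coprime (q ^ (2 * j) - 1) := by simp only [_root_.Nat.coprime_self_add_left, _root_.Nat.coprime_one_left_eq_true]
      rwa [Nat.sub_add_cancel hqj] at h4
    have h5 : (q ^ (2 * j)).Coprime N := Nat.Coprime.coprime_dvd_right h.dvd h3
    exact Nat.Coprime.coprime_dvd_left (dvd_pow_self q (by omega)) h5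
  refine ⟨(h.prim j hj (by omega)).dvd_of_dvd_mul_left h1, ?_, hcq, ?_, hj⟩
  · rw [← Nat.not_even_iff_odd]
    intro he
    have h2 : 2 ∣ N := he.two_dvd
    rcases Nat.even_or_odd q with h3 | h3
    · have h4 : 2 ∣ 1 := by
        have := Nat.dvd_gcd h2 h3.two_dvd
        rwa [hcq] at this
      omega
    · have h4 : 2 ∣ q ^ 1 - 1 := by
        rw [pow_one]
        obtain ⟨k, rfl⟩ := h3
        exact ⟨k, by omega⟩
      have h5 := Nat.dvd_gcd h2 h4
      rw [h.prim 1 le_rfl (by omega)] at h5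
      omega
  · have := h.big
    omega

theorem ppd_copq {q k r : ℕ} (h : Ppd q k r) : r.Coprime q :=
  (Nat.Prime.coprime_iff_not_dvd h.prime).2 h.not_dvd

theorem ppd_cop {q k r : ℕ} (h : Ppd q k r) {i : ℕ} (hi : 1 ≤ i) (hk : i < k) : r.Coprime (q ^ i - 1) := by
  rw [Nat.Prime.coprime_iff_not_dvd h.prime, h.iff]
  intro h1
  have := Nat.le_of_dvd (by omega) h1
  omega

theorem num_coprime {q n j N M c : ℕ} (h : Num q n (2 * j) N) (hM : M ∣ q ^ c - 1) (hc : 1 ≤ c) (hcj : c < 2 * j) :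
    N.Coprime M := Nat.Coprime.coprime_dvd_right hM (h.prim c hc hcj)

end num

section

variable {ι : Type} [Fintype ι] [DecidableEq ι] {F : Type} [Field F] [Finite F]

/-- every nondegenerate form of dimension `2 m` and type `ε` is isometric to `Q` -/
def Mod (Q : QuadraticForm F (ι → F)) (m : ℕ) (ε : ℤ) : Prop :=
  ∀ (V : Type) [AddCommGroup V] [Module F V] [Finite V] (Q' : QuadraticForm F V), finrank F V = 2 * m → Nondeg Q' →
    HasSign (⇑Q') m ε → ∃ e : (ι → F) ≃ₗ[F] V, ∀ u, Q' (e u) = Q u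

variable {V V' : Type} [AddCommGroup V] [Module F V] [Finite V] [AddCommGroup V'] [Module F V'] [Finite V']
  {e : (ι → F) ≃ₗ[F] (V × V')} {x : GL ι F} {S : Module.End F V} {T : Module.End F V'}

theorem finrank_le_of_fst {W : Submodule F (ι → F)} (h : ∀ w ∈ W, (e w).1 = 0) : finrank F W ≤ finrank F V' := by
  have : FiniteDimensional F V' := Module.Finite.of_finite
  let f : W →ₗ[F] V' := (LinearMap.snd F V V').comp ((e : (ι → F) →ₗ[F] (V × V')).comp W.subtype)
  refine LinearMap.finrank_le_finrank_of_injective (f := f) ?_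
  rw [← LinearMap.ker_eq_bot, LinearMap.ker_eq_bot']
  intro w hw
  have h1 : e w = 0 := Prod.ext (h w w.2) hw
  exact Subtype.ext ((LinearEquiv.map_eq_zero_iff e).1 h1)

theorem pow_inv {U : Type} [AddCommGroup U] [Module F U] {R : Module.End F U} {W : Submodule F U}
    (h : ∀ w ∈ W, R w ∈ W) (n : ℕ) : ∀ w ∈ W, (R ^ n) w ∈ W := by
  induction n with
  | zero => exact fun w hw => hw
  | succ n ih => intro w hw; rw [pow_succ, Module.End.mul_apply]; exact ih _ (h w hw)

/-- `W` invariant under `x = (S, T)`, contained in the second space, where `T` has prime order and no fixed vector -/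
theorem dvd_of_snd (hx : IsM e x (S.prodMap T)) {W : Submodule F (ι → F)} (hW : ∀ w ∈ W, (x : Matrix ι ι F) *ᵥ w ∈ W)
    (h : ∀ w ∈ W, (e w).1 = 0) {s r c : ℕ} (hs : S ^ s = 1) (ht : T ^ s = T) (hT : T ^ r = 1)
    (hr : Ppd (Nat.card F) c r) (hc : 1 ≤ c) (hker : LinearMap.ker (T - 1) = ⊥) : c ∣ finrank F W := by
  have : FiniteDimensional F V := Module.Finite.of_finite
  have : FiniteDimensional F V' := Module.Finite.of_finite
  rw [← finrank_map_e (e := e)]
  refine dvd_of_free (x := ((1 : Module.End F V).prodMap T : Module.End F (V × V'))) hr.prime ?_ hc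
    ((hr.iff c).2 dvd_rfl) ?_ ?_ ?_
  · rw [prodMap_pow', hT, one_pow]
    rfl
  · intro i hi hic hd
    rw [hr.iff] at hd
    have := Nat.le_of_dvd (by omega) hd
    omega
  · have h1 := pow_inv (hx.inv_map hW) s
    rwa [prodMap_pow', hs, ht] at h1
  · rintro _ ⟨w, hw, rfl⟩ hfix
    refine Prod.ext (h w hw) (fix_eq_zero hker ?_)
    exact congrArg Prod.snd hfix

theorem dvd_of_fst (hx : IsM e x (S.prodMap T)) {W : Submodule F (ι → F)} (hW : ∀ w ∈ W, (x : Matrix ι ι F) *ᵥ w ∈ W)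
    (h : ∀ w ∈ W, (e w).2 = 0) {s r c : ℕ} (hs : S ^ s = S) (ht : T ^ s = 1) (hS : S ^ r = 1)
    (hr : Ppd (Nat.card F) c r) (hc : 1 ≤ c) (hker : LinearMap.ker (S - 1) = ⊥) : c ∣ finrank F W := by
  have : FiniteDimensional F V := Module.Finite.of_finite
  have : FiniteDimensional F V' := Module.Finite.of_finite
  rw [← finrank_map_e (e := e)]
  refine dvd_of_free (x := (S.prodMap (1 : Module.End F V') : Module.End F (V × V'))) hr.prime ?_ hc
    ((hr.iff c).2 dvd_rfl) ?_ ?_ ?_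
  · rw [prodMap_pow', hS, one_pow]
    rfl
  · intro i hi hic hd
    rw [hr.iff] at hd
    have := Nat.le_of_dvd (by omega) hd
    omega
  · have h1 := pow_inv (hx.inv_map hW) s
    rwa [prodMap_pow', hs, ht] at h1
  · rintro _ ⟨w, hw, rfl⟩ hfix
    refine Prod.ext (fix_eq_zero hker ?_) (h w hw)
    exact congrArg Prod.fst hfix

theorem sumQ_isom {Q₁ : QuadraticForm F V} {Q₂ : QuadraticForm F V'} (h₁ : ∀ v, Q₁ (S v) = Q₁ v)
    (h₂ : ∀ v, Q₂ (T v) = Q₂ v) (v : V × V') : sumQ Q₁ Q₂ ((S.prodMap T) v) = sumQ Q₁ Q₂ v := by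
  rw [sumQ_apply, sumQ_apply, LinearMap.prodMap_apply, h₁, h₂]

variable {Q : QuadraticForm F (ι → F)}

/-- **the element `neg j + T₂`** -/
theorem exists_negB (hQ : Nondeg Q) {m j c N : ℕ} (hcard : Fintype.card ι = 2 * m) (hjc : j + c = m)
    (hnum : Num (Nat.card F) (Fintype.card ι) (2 * j) N) {Q₂ : QuadraticForm F V'} {ε : ℤ}
    (hdim : finrank F V' = 2 * c) (hnd : Nondeg Q₂) (hsg : HasSign (⇑Q₂) c ε) {R : Module.End F V'}
    (hR : ∀ v, Q₂ (R v) = Q₂ v) (hRT : R * R = T)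
    {M : ℕ} (hM : T ^ M = 1) (hNM : N.Coprime M) (hmod : Mod Q m (-1 * ε)) :
    ∃ x ∈ omegaGL ⇑Q, NegB j x ∧ ∃ (Q₁ : QuadraticForm F (Fin (2 * j) → F)) (S : Module.End F (Fin (2 * j) → F))
      (e : (ι → F) ≃ₗ[F] ((Fin (2 * j) → F) × V')) (s : ℕ), IsM e x (S.prodMap T) ∧ (∀ u, sumQ Q₁ Q₂ (e u) = Q u) ∧
      S ^ s = 1 ∧ T ^ s = T ∧ ∀ W : Submodule F (ι → F), (∀ w ∈ W, (x : Matrix ι ι F) *ᵥ w ∈ W) →
        2 * finrank F W ≤ Fintype.card ι → ∀ w ∈ W, (e w).1 = 0 := by
  have : FiniteDimensional F V' := Module.Finite.of_finite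
  have hq : 2 ≤ Nat.card F := Finite.one_lt_card
  obtain ⟨h1, hodd, hcq, hN1, hj⟩ := num_facts hq hnum
  obtain ⟨-, Q₁, S, nd₁, sg₁, is₁, os₁⟩ := elt_tor_minus (F := F) hj h1
  have hSN : S ^ N = 1 := by rw [← os₁]; exact pow_orderOf_eq_one S
  have hdim₁ : finrank F (Fin (2 * j) → F) = 2 * j := Module.finrank_fin_fun F
  obtain ⟨e, he⟩ := hmod ((Fin (2 * j) → F) × V') (sumQ Q₁ Q₂) (by
    rw [Module.finrank_prod, hdim₁, hdim, ← hjc]
    ring) (sumQ_nondeg nd₁ hnd) (by
      have := sg₁.prod hsg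
      rwa [hjc] at this)
  obtain ⟨k, hk⟩ := id hodd
  have hsq : (S ^ (k + 1)).prodMap R * (S ^ (k + 1)).prodMap R =
      (S.prodMap T : Module.End F ((Fin (2 * j) → F) × V')) := by
    have h2 : S ^ (k + 1) * S ^ (k + 1) = S := by
      rw [← pow_add, show k + 1 + (k + 1) = (2 * k + 1) + 1 by ring, ← hk, pow_succ, hSN, one_mul]
    apply LinearMap.ext
    intro v
    refine Prod.ext ?_ ?_
    · exact LinearMap.congr_fun h2 v.1
    · exact LinearMap.congr_fun hRT v.2
  obtain ⟨x, hxO, hx⟩ := exists_sq hQ (by have := hnum.ten; omega) he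
    (sumQ_isom (S := S ^ (k + 1)) (T := R) (fun v => Cfsg.Agent.H377.isom_pow is₁ _ v) hR) hsq
  have hker : LinearMap.ker (S - 1) = ⊥ := by
    refine ker_sub_one hSN hcq hnum.prim hdim₁ ?_
    rintro rfl
    rw [orderOf_one] at os₁
    omega
  obtain ⟨s, hs, ht⟩ := exists_sep hSN hM hNM
  obtain ⟨s', hs', ht'⟩ := exists_sep hM hSN hNM.symm
  have hxs : IsM e (x ^ s) (S.prodMap (1 : Module.End F V')) := by
    have := hx.pow s
    rwa [prodMap_pow', hs, ht] at this
  have hos : orderOf (x ^ s) = N := by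
    rw [hxs.orderOf, orderOf_prodMap, os₁, orderOf_one, Nat.lcm_one_right]
  refine ⟨x, hxO, ⟨s, ⟨?_, ?_, ?_⟩, ?_, ?_, ?_⟩, Q₁, S, e, s', hx, he, ht', hs', ?_⟩
  · rwa [hos]
  · rw [hos]; exact hnum.prim
  · rw [hxs.finrank_range, finrank_range_prod_one, finrank_range_of_ker hker, hdim₁]
  · rwa [hos]
  · rwa [hos]
  · rwa [hos]
  · intro W hW hd w hw
    refine fst_zero (W := W.map (e : (ι → F) →ₗ[F] _)) hs ht hSN hcq hnum.prim hker ?_ (hx.inv_map hW) ⟨w, hw, rfl⟩
    rw [finrank_map_e]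
    have := hnum.lt
    omega

/-- **the element `pos a + T₂`**, `a` odd -/
theorem exists_pn (hQ : Nondeg Q) {m a c l : ℕ} (h5 : 5 ≤ Fintype.card ι) (hac : a + c = m)
    (ha : Odd a) (hl : Ppd (Nat.card F) a l) (hl2 : l ≠ 2) {Q₂ : QuadraticForm F V'} {ε : ℤ}
    (hdim : finrank F V' = 2 * c) (hnd : Nondeg Q₂) (hsg : HasSign (⇑Q₂) c ε) (hT : ∀ v, Q₂ (T v) = Q₂ v)
    {M : ℕ} (hM : T ^ M = 1) (hMo : Odd M) (hlM : l.Coprime M) (hmod : Mod Q m (1 * ε)) :
    ∃ x ∈ omegaGL ⇑Q, KillAt 2 x ∧ (∀ r : ℕ, r.Prime → r ≠ l → ¬ r ∣ 2 * c → KillAt r x) ∧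
      ∃ (V : Type) (_ : AddCommGroup V) (_ : Module F V) (_ : Finite V) (S : Module.End F V)
      (e : (ι → F) ≃ₗ[F] (V × V')), finrank F V = 2 * a ∧ IsM e x (S.prodMap T) ∧ S ^ l = 1 ∧
        LinearMap.ker (S - 1) = ⊥ := by
  have : FiniteDimensional F V' := Module.Finite.of_finite
  obtain ⟨V, i1, i2, i3, Q₁, S, P, hP⟩ := exists_pos F ha hl hl2
  have : FiniteDimensional F V := Module.Finite.of_finite
  have hSN : S ^ l = 1 := by rw [← hP.order]; exact pow_orderOf_eq_one S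
  obtain ⟨e, he⟩ := hmod (V × V') (sumQ Q₁ Q₂) (by
    rw [Module.finrank_prod, hP.dim, hdim, ← hac]
    ring) (sumQ_nondeg hP.nd hnd) (by
      have := hP.sign.prod hsg
      rwa [hac] at this)
  have hodd2 : Odd (orderOf (S.prodMap T : Module.End F (V × V'))) := by
    rw [orderOf_prodMap, hP.order]
    refine Odd.of_dvd_nat ((hl.prime.odd_of_ne_two hl2).mul hMo) ?_
    exact (Nat.lcm_dvd_mul _ _).trans (Nat.mul_dvd_mul_left _ (orderOf_dvd_of_pow_eq_one hM))
  obtain ⟨x, hxO, hx⟩ := exists_odd hQ h5 he (sumQ_isom hP.isom hT) hodd2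
  obtain ⟨s, hs, ht⟩ := exists_sep hSN hM hlM
  have hxs : IsM e (x ^ s) (S.prodMap (1 : Module.End F V')) := by
    have := hx.pow s
    rwa [prodMap_pow', hs, ht] at this
  have hos : orderOf (x ^ s) = l := by
    rw [hxs.orderOf, orderOf_prodMap, hP.order, orderOf_one, Nat.lcm_one_right]
  refine ⟨x, hxO, ⟨s, P, ?_, ?_⟩, ?_, V, i1, i2, i3, S, e, hP.dim, hx, hSN, hP.fix⟩
  · rw [hos]
    exact (Nat.coprime_primes hl.prime Nat.prime_two).2 hl2
  · rw [hxs.finrank_ker, finrank_ker_prodMap, hP.ker, finrank_ker_aeval_one _ hP.one, add_zero]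
    obtain ⟨k, rfl⟩ := ha
    omega
  · intro r hr hrl hrc
    refine ⟨s, X - 1, ?_, ?_⟩
    · rw [hos]
      exact (Nat.coprime_primes hl.prime hr).2 (Ne.symm hrl)
    · have h1 : ∀ {U : Type} [AddCommGroup U] [Module F U] (R : Module.End F U), aeval R (X - 1 : F[X]) = R - 1 := by
        intro U _ _ R
        rw [map_sub, aeval_X, map_one]
      rw [hxs.finrank_ker, finrank_ker_prodMap, h1, h1, hP.fix, finrank_bot, zero_add, sub_self, LinearMap.ker_zero,
        finrank_top, hdim]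
      exact hrc

end

end Cfsg.Agent.H688.Cov
end

-- part: H688/Cov/Kinds
section
/-!
# S2499, orthogonal groups: the kinds of elements (helper688)

* `negTriv` : `neg j` with trivial action on a complement of dimension `2 c`;
* `negHyp` : the same with complement a hyperbolic plane, with information on the fixed plane;
* `negPos` : `neg j + pos a`;
* `negDiag` : `neg j + (t, t)`, `t` in `O₂⁻(q)` without eigenvector;
* `posNeg` : `pos a + neg b`, `a` odd.
-/

set_option autoImplicit false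
set_option linter.unusedSectionVars false

namespace Cfsg.Agent.H688.Cov

open Cfsg Cfsg.Geo Module Polynomial
open Cfsg.Agent.H278.Cov Cfsg.Agent.H383.Cov
open Cfsg.Agent.LieClassical.OrthCore (Nondeg)
open Cfsg.Agent.H377 (HasSign sumQ sumQ_apply sumQ_nondeg hypQ hypQ_apply hypQ_nondeg hasSign_mul Elt elt_one
  elt_tor_minus elt_ell prodMap_pow' orderOf_prodMap)
open Cfsg.Agent.H689 (Ppd)
open scoped MatrixGroups Matrix

variable {ι : Type} [Fintype ι] [DecidableEq ι] {F : Type} [Field F] [Finite F] {Q : QuadraticForm F (ι → F)}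

/-- `neg j` with trivial action on the complement -/
theorem negTriv (hQ : Nondeg Q) {m j c N : ℕ} (hcard : Fintype.card ι = 2 * m) (hjc : j + c = m)
    (hnum : Num (Nat.card F) (Fintype.card ι) (2 * j) N) (hmod : Mod Q m (-1)) :
    ∃ x ∈ omegaGL ⇑Q, NegB j x ∧ InvIn x (dimSet ι F {d | d ≤ 2 * c}) := by
  obtain ⟨-, Q₂, T, nd, sg, is, os⟩ := elt_one (F := F) c
  have hT : T = 1 := orderOf_eq_one_iff.1 os
  obtain ⟨x, hx, hxN, Q₁, S, e, s, hM, he, -, -, hW⟩ := exists_negB hQ hcard hjc hnum (Module.finrank_fin_fun F) nd sg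
    (R := 1) (T := 1) (fun _ => rfl) (one_mul _) (M := 1) (one_pow _) (Nat.coprime_one_right _) (by rwa [mul_one])
  refine ⟨x, hx, hxN, fun W hWi hd => ?_⟩
  have h1 := finrank_le_of_fst (e := e) (hW W hWi hd)
  rwa [Module.finrank_fin_fun] at h1

/-- `neg j + pos a` -/
theorem negPos (hQ : Nondeg Q) {m j a l N : ℕ} (hcard : Fintype.card ι = 2 * m) (hja : j + a = m)
    (hnum : Num (Nat.card F) (Fintype.card ι) (2 * j) N) (ha : Odd a) (haj : a < 2 * j) (hl : Ppd (Nat.card F) a l)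
    (hl2 : l ≠ 2) (hmod : Mod Q m (-1)) :
    ∃ x ∈ omegaGL ⇑Q, NegB j x ∧ InvIn x (dimSet ι F {d | d ≤ 2 * a ∧ a ∣ d}) := by
  obtain ⟨V, i1, i2, i3, Q₂, T, P, hP⟩ := exists_pos F ha hl hl2
  have ha1 : 1 ≤ a := by obtain ⟨k, rfl⟩ := ha; omega
  have hTl : T ^ l = 1 := by rw [← hP.order]; exact pow_orderOf_eq_one T
  obtain ⟨k, hk⟩ := hl.prime.odd_of_ne_two hl2
  obtain ⟨x, hx, hxN, Q₁, S, e, s, hM, he, hs, ht, hW⟩ := exists_negB hQ hcard hja hnum hP.dim hP.nd hP.sign
    (R := T ^ (k + 1)) (T := T) (fun v => Cfsg.Agent.H377.isom_pow hP.isom _ v) (by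
      rw [← pow_add, show k + 1 + (k + 1) = (2 * k + 1) + 1 by ring, ← hk, pow_succ, hTl, one_mul]) (M := l) hTl
    (num_coprime hnum ((hl.iff a).2 dvd_rfl) ha1 haj) (by rwa [mul_one])
  refine ⟨x, hx, hxN, fun W hWi hd => ⟨?_, ?_⟩⟩
  · have h1 := finrank_le_of_fst (e := e) (hW W hWi hd)
    rwa [hP.dim] at h1
  · exact dvd_of_snd hM hWi (hW W hWi hd) hs ht hTl hl ha1 hP.fix

/-- `pos a + neg b`, `a` odd -/
theorem posNeg (hQ : Nondeg Q) {m a b l l' : ℕ} (h5 : 5 ≤ Fintype.card ι) (hab : a + b = m)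
    (ha : Odd a) (hl : Ppd (Nat.card F) a l) (hl2 : l ≠ 2) (hb : 2 ≤ b) (hl' : Ppd (Nat.card F) (2 * b) l')
    (hmod : Mod Q m (-1)) :
    ∃ x ∈ omegaGL ⇑Q, KillAt 2 x ∧ (∀ r : ℕ, r.Prime → r ≠ l → ¬ r ∣ 2 * b → KillAt r x) ∧
      InvIn x (dimSet ι F {d | d < 2 * b → a ∣ d}) := by
  have ha1 : 1 ≤ a := by obtain ⟨k, rfl⟩ := ha; omega
  have hq : 2 ≤ Nat.card F := Finite.one_lt_card
  have hl'2 : 2 < l' := hl'.two_lt (by omega)
  have hd : l' ∣ Nat.card F ^ b + 1 := by
    have h1 : l' ∣ (Nat.card F ^ b - 1) * (Nat.card F ^ b + 1) := by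
      have h2 : (Nat.card F ^ b - 1) * (Nat.card F ^ b + 1) = Nat.card F ^ (2 * b) - 1 := by
        have h3 := Nat.sq_sub_sq (Nat.card F ^ b) 1
        rw [one_pow, ← pow_mul, mul_comm b 2] at h3
        rw [h3, mul_comm]
      rw [h2]
      exact (hl'.iff _).2 dvd_rfl
    refine (ppd_cop hl' (by omega) (by omega)).dvd_of_dvd_mul_left h1
  obtain ⟨-, Q₂, T, nd, sg, is, os⟩ := elt_tor_minus (F := F) (k := b) (by omega) hd
  have hTl : T ^ l' = 1 := by rw [← os]; exact pow_orderOf_eq_one T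
  have hne : l ≠ l' := by
    rintro rfl
    have h1 := (hl'.iff a).1 ((hl.iff a).2 dvd_rfl)
    obtain ⟨k, rfl⟩ := ha
    have h2 : 2 ∣ 2 * k + 1 := (Dvd.intro _ rfl).trans h1
    omega
  have hcop : l.Coprime l' := (Nat.coprime_primes hl.prime hl'.prime).2 hne
  have hker : LinearMap.ker (T - 1) = ⊥ := by
    refine ker_sub_one hTl (ppd_copq hl') (fun i h1 h2 => ppd_cop hl' h1 h2) (Module.finrank_fin_fun F) ?_
    rintro rfl
    rw [orderOf_one] at os
    omega
  obtain ⟨x, hx, hk2, hkr, V, i1, i2, i3, S, e, hdimV, hM, hS, hSker⟩ := exists_pn hQ h5 hab ha hl hl2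
    (Module.finrank_fin_fun F) nd sg is hTl (hl'.prime.odd_of_ne_two (by omega)) hcop (by rwa [one_mul])
  have : FiniteDimensional F V := Module.Finite.of_finite
  refine ⟨x, hx, hk2, hkr, fun W hWi hdW hlt => ?_⟩
  obtain ⟨s, hs, ht⟩ := exists_sep hS hTl hcop
  obtain ⟨s', hs', ht'⟩ := exists_sep hTl hS hcop.symm
  refine dvd_of_fst hM hWi ?_ hs ht hS hl ha1 hSker
  intro w hw
  refine snd_zero (W := W.map (e : (ι → F) →ₗ[F] _)) ht' hs' hTl (ppd_copq hl')
    (fun i h1 h2 => ppd_cop hl' h1 h2) hker ?_ (hM.inv_map hWi) ⟨w, hw, rfl⟩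
  rw [finrank_map_e]
  exact hlt

/-! ### the refined sets -/

/-- dimension 0, 2, 4; a plane with a nonzero singular vector is totally singular -/
def setA (Q : QuadraticForm F (ι → F)) : Set (Submodule F (ι → F)) :=
  {W | finrank F W ≤ 4 ∧ 2 ∣ finrank F W ∧
    (finrank F W = 2 → (∃ v ∈ W, v ≠ 0 ∧ Q v = 0) → ∀ w ∈ W, Q w = 0)}

/-- dimension at most 2; a plane contains a nonzero singular vector and is not totally singular -/
def setB (Q : QuadraticForm F (ι → F)) : Set (Submodule F (ι → F)) :=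
  {W | finrank F W ≤ 2 ∧ (finrank F W = 2 → (∃ v ∈ W, v ≠ 0 ∧ Q v = 0) ∧ ∃ w ∈ W, Q w ≠ 0)}

theorem mulVec_ne_zero (g : GL ι F) {v : ι → F} (hv : v ≠ 0) : (g : Matrix ι ι F) *ᵥ v ≠ 0 := by
  intro h
  apply hv
  have h1 : ((g⁻¹ : GL ι F) : Matrix ι ι F) *ᵥ ((g : Matrix ι ι F) *ᵥ v) = 0 := by rw [h, Matrix.mulVec_zero]
  rwa [Matrix.mulVec_mulVec, ← Units.val_mul, inv_mul_cancel, Units.val_one, Matrix.one_mulVec] at h1

theorem stable_setA : Stable Q (setA Q) := by
  rintro g hg W ⟨h1, h2, h3⟩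
  refine ⟨by rwa [finrank_map_gl], by rwa [finrank_map_gl], ?_⟩
  rw [finrank_map_gl]
  rintro hW ⟨_, ⟨v, hv, rfl⟩, hv0, hvQ⟩ _ ⟨w, hw, rfl⟩
  rw [Matrix.toLin'_apply] at hv0 hvQ ⊢
  rw [mulVec_isom hg] at hvQ ⊢
  refine h3 hW ⟨v, hv, ?_, hvQ⟩ w hw
  rintro rfl
  exact hv0 (Matrix.mulVec_zero _)

theorem stable_setB : Stable Q (setB Q) := by
  rintro g hg W ⟨h1, h2⟩
  refine ⟨by rwa [finrank_map_gl], ?_⟩
  rw [finrank_map_gl]
  intro hW
  obtain ⟨⟨v, hv, hv0, hvQ⟩, w, hw, hwQ⟩ := h2 hW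
  refine ⟨⟨_, ⟨v, hv, rfl⟩, ?_, ?_⟩, _, ⟨w, hw, rfl⟩, ?_⟩
  · rw [Matrix.toLin'_apply]
    exact mulVec_ne_zero g hv0
  · rwa [Matrix.toLin'_apply, mulVec_isom hg]
  · rwa [Matrix.toLin'_apply, mulVec_isom hg]

theorem setA_setB {W : Submodule F (ι → F)} (hA : W ∈ setA Q) (hB : W ∈ setB Q) : W = ⊥ := by
  obtain ⟨-, ⟨k, hk⟩, h3⟩ := hA
  obtain ⟨h4, h5⟩ := hB
  rcases Nat.eq_zero_or_pos k with rfl | hk0
  · exact Submodule.finrank_eq_zero.1 hk
  · exfalso
    have h6 : finrank F W = 2 := by omega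
    obtain ⟨h7, w, hw, hw0⟩ := h5 h6
    exact hw0 (h3 h6 h7 w hw)

/-- `neg j` with complement a hyperbolic plane -/
theorem negHyp (hQ : Nondeg Q) {m j N : ℕ} (hcard : Fintype.card ι = 2 * m) (hjc : j + 1 = m)
    (hnum : Num (Nat.card F) (Fintype.card ι) (2 * j) N) (hmod : Mod Q m (-1)) :
    ∃ x ∈ omegaGL ⇑Q, NegB j x ∧ InvIn x (setB Q) := by
  have hdim : finrank F (F × F) = 2 * 1 := by rw [Module.finrank_prod, Module.finrank_self]
  obtain ⟨x, hx, hxN, Q₁, S, e, s, hM, he, -, -, hW⟩ := exists_negB hQ hcard hjc hnum hdim (hypQ_nondeg (F := F))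
    hasSign_mul (R := 1) (T := 1) (fun _ => rfl) (one_mul _) (M := 1) (one_pow _) (Nat.coprime_one_right _)
    (by rwa [mul_one])
  refine ⟨x, hx, hxN, fun W hWi hd => ?_⟩
  have h1 := finrank_le_of_fst (e := e) (hW W hWi hd)
  rw [hdim] at h1
  refine ⟨by omega, fun h2 => ?_⟩
  have h3 : W.map (e : (ι → F) →ₗ[F] _) = (⊥ : Submodule F (Fin (2 * j) → F)).prod (⊤ : Submodule F (F × F)) := by
    apply Submodule.eq_of_le_of_finrank_eq
    · rintro _ ⟨w, hw, rfl⟩
      exact ⟨hW W hWi hd w hw, trivial⟩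
    · rw [finrank_submodule_prod, finrank_map_e, finrank_bot, finrank_top, hdim, h2]
  have h4 : ∀ u : F × F, ∃ w ∈ W, e w = (0, u) := by
    intro u
    have h5 : ((0, u) : (Fin (2 * j) → F) × (F × F)) ∈ W.map (e : (ι → F) →ₗ[F] _) := by
      rw [h3]
      exact ⟨rfl, trivial⟩
    obtain ⟨w, hw, hwe⟩ := h5
    exact ⟨w, hw, hwe⟩
  have h5 : ∀ {w : ι → F} {u : F × F}, e w = (0, u) → Q w = u.1 * u.2 := by
    intro w u hw
    rw [← he, hw, sumQ_apply, hypQ_apply]
    change Q₁ 0 + _ = _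
    rw [QuadraticMap.map_zero, zero_add]
  obtain ⟨v, hv, hve⟩ := h4 (1, 0)
  obtain ⟨w, hw, hwe⟩ := h4 (1, 1)
  refine ⟨⟨v, hv, ?_, ?_⟩, w, hw, ?_⟩
  · rintro rfl
    rw [map_zero] at hve
    have := congrArg (fun z => z.2.1) hve
    exact one_ne_zero this.symm
  · rw [h5 hve]; simp
  · rw [h5 hwe]; simp

section diag

variable {V₀ : Type} [AddCommGroup V₀] [Module F V₀] [Finite V₀] {Q₀ : QuadraticForm F V₀} {t : Module.End F V₀}

/-- an isometry of order `q + 1` of an anisotropic plane has no eigenvector -/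
theorem noEig (hdim : finrank F V₀ = 2) (han : ∀ v, Q₀ v = 0 → v = 0)
    (ht : ∀ v, Q₀ (t v) = Q₀ v) (ho : orderOf t = Nat.card F + 1) {v : V₀} {c : F} (hv : t v = c • v) : v = 0 := by
  have : FiniteDimensional F V₀ := Module.Finite.of_finite
  by_contra hv0
  -- eigenvalues are `± 1`
  have key : ∀ {u : V₀} {c : F}, u ≠ 0 → t u = c • u → t (t u) = u := by
    intro u c hu h
    have h1 := ht u
    rw [h, QuadraticMap.map_smul, smul_eq_mul] at h1
    have h2 : Q₀ u ≠ 0 := fun h0 => hu (han u h0)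
    have h3 : c * c = 1 := by
      have h4 : (c * c - 1) * Q₀ u = 0 := by linear_combination h1
      exact sub_eq_zero.1 ((mul_eq_zero.1 h4).resolve_right h2)
    rw [h, map_smul, h, smul_smul, h3, one_smul]
  have hcop : (Nat.card F + 1).Coprime (Nat.card F) := by simp
  have h1 : (t ^ 2) ^ (Nat.card F + 1) = 1 := by
    rw [← pow_mul, mul_comm, pow_mul, ← ho, pow_orderOf_eq_one, one_pow]
  have h2 : t ^ 2 = 1 := by
    rw [← sub_eq_zero]
    apply LinearMap.ext
    intro z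
    rw [LinearMap.zero_apply]
    by_contra hu
    set u := (t ^ 2 - 1 : Module.End F V₀) z with hudef
    -- the range of `t² - 1` is a line
    have hker : v ∈ LinearMap.ker (t ^ 2 - 1) := by
      rw [LinearMap.mem_ker, LinearMap.sub_apply, pow_two, Module.End.mul_apply, key hv0 hv, Module.End.one_apply,
        sub_self]
    have h3 := LinearMap.finrank_range_add_finrank_ker (t ^ 2 - 1)
    have h4 : 0 < finrank F (LinearMap.ker (t ^ 2 - 1)) := by
      rw [Nat.pos_iff_ne_zero]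
      intro h
      rw [Submodule.finrank_eq_zero.1 h] at hker
      exact hv0 ((Submodule.mem_bot F).1 hker)
    have hur : u ∈ LinearMap.range (t ^ 2 - 1) := ⟨z, rfl⟩
    have h5 : finrank F (LinearMap.range (t ^ 2 - 1)) ≤ 1 := by omega
    obtain ⟨u₀, hu₀⟩ := (Submodule.finrank_le_one_iff_isPrincipal _).1 h5
    have htu : t u ∈ LinearMap.range (t ^ 2 - 1) := by
      refine ⟨t z, ?_⟩
      rw [hudef, LinearMap.sub_apply, LinearMap.sub_apply, map_sub]
      rfl
    rw [hu₀] at hur htu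
    obtain ⟨α, hα⟩ := Submodule.mem_span_singleton.1 hur
    obtain ⟨β, hβ⟩ := Submodule.mem_span_singleton.1 htu
    have hα0 : α ≠ 0 := by
      rintro rfl
      rw [zero_smul] at hα
      exact hu hα.symm
    have h6 : t u = (β * α⁻¹) • u := by
      rw [← hβ, ← hα, smul_smul, mul_assoc, inv_mul_cancel₀ hα0, mul_one]
    have h7 : (t ^ 2) u = u := by
      rw [pow_two, Module.End.mul_apply]
      exact key hu h6
    exact hu (eq_zero_of_fix h1 hcop (v := z) rfl h7)
  have h3 := orderOf_dvd_of_pow_eq_one h2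
  rw [ho] at h3
  have := Nat.le_of_dvd (by norm_num) h3
  have hq2 : 1 < Nat.card F := Finite.one_lt_card
  omega

/-- A nondegenerate plane of sign `-1` is anisotropic. -/
theorem aniso_of_sign (hnd : Nondeg Q₀) (h2 : finrank F V₀ = 2 * 1) (hs : HasSign (⇑Q₀) 1 (-1)) {w : V₀}
    (hw : Q₀ w = 0) : w = 0 := by
  have : FiniteDimensional F V₀ := Module.Finite.of_finite
  rcases Cfsg.Agent.H377.classify_all (m := 1) le_rfl h2 Q₀ hnd with ⟨e, he⟩ | ⟨ζ, hζ, e, he⟩
  · exfalso
    have h1 := ((Cfsg.Agent.H377.hasSign_quadFormPlus (F := F) 1).congr e.toEquiv he)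
    have h2 := (hs.sign_eq h1 (Or.inr rfl) (Or.inl rfl)).1
    omega
  · obtain ⟨v, rfl⟩ := e.surjective w
    rw [he, Cfsg.Agent.LieClassical.OrthForms.quadFormMinus_apply] at hw
    have h3 : v (Sum.inr 0) ^ 2 + 1 * v (Sum.inr 0) * v (Sum.inr 1) + ζ * v (Sum.inr 1) ^ 2 = 0 := by
      rw [← hw]
      simp
    obtain ⟨h4, h5⟩ := hζ _ _ h3
    have h6 : v = 0 := by
      funext i
      rcases i with (i | i) | i
      · exact i.elim0
      · exact i.elim0
      · fin_cases i
        · exact h4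
        · exact h5
    rw [h6, map_zero]

variable (hdim : finrank F V₀ = 2) (hne : ∀ {v : V₀} {c : F}, t v = c • v → v = 0)

include hdim hne

theorem irr {U : Submodule F V₀} (hU : ∀ u ∈ U, t u ∈ U) : finrank F U = 0 ∨ finrank F U = 2 := by
  have : FiniteDimensional F V₀ := Module.Finite.of_finite
  have h1 := Submodule.finrank_le U
  rw [hdim] at h1
  have h2 : finrank F U ≠ 1 := by
    intro h
    obtain ⟨⟨u, hu⟩, hu0, hspan⟩ := finrank_eq_one_iff'.1 h
    obtain ⟨c, hc⟩ := hspan ⟨t u, hU u hu⟩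
    have h3 : t u = c • u := (congrArg Subtype.val hc).symm
    exact hu0 (Subtype.ext (hne h3))
  omega

theorem noSq (ho : ¬ orderOf t ∣ 2) {v : V₀} (hv : t (t v) = v) : v = 0 := by
  have : FiniteDimensional F V₀ := Module.Finite.of_finite
  have hinv : ∀ u ∈ LinearMap.ker (t * t - 1), t u ∈ LinearMap.ker (t * t - 1) := by
    intro u hu
    rw [LinearMap.mem_ker, LinearMap.sub_apply, Module.End.mul_apply, Module.End.one_apply, sub_eq_zero] at hu ⊢
    rw [hu]
  rcases irr hdim (fun {v c} h => hne h) hinv with h | h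
  · rw [Submodule.finrank_eq_zero] at h
    have h1 : v ∈ LinearMap.ker (t * t - 1) := by
      rw [LinearMap.mem_ker, LinearMap.sub_apply, Module.End.mul_apply, Module.End.one_apply, sub_eq_zero]
      exact hv
    rw [h] at h1
    exact (Submodule.mem_bot F).1 h1
  · exfalso
    have h1 : LinearMap.ker (t * t - 1) = ⊤ := Submodule.eq_top_of_finrank_eq (h.trans hdim.symm)
    apply ho
    apply orderOf_dvd_of_pow_eq_one
    rw [pow_two, ← sub_eq_zero]
    exact LinearMap.ker_eq_top.1 h1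

theorem even_rank {U : Submodule F (V₀ × V₀)} (hU : ∀ u ∈ U, (t.prodMap t) u ∈ U) : 2 ∣ finrank F U := by
  have : FiniteDimensional F V₀ := Module.Finite.of_finite
  let f : U →ₗ[F] V₀ := (LinearMap.fst F V₀ V₀).comp U.subtype
  have h1 := LinearMap.finrank_range_add_finrank_ker f
  have h2 : finrank F (LinearMap.range f) = 0 ∨ finrank F (LinearMap.range f) = 2 := by
    refine irr hdim (fun {v c} h => hne h) ?_
    rintro _ ⟨u, rfl⟩
    exact ⟨⟨_, hU u u.2⟩, rfl⟩
  let U₂ : Submodule F V₀ := U.comap (LinearMap.inr F V₀ V₀)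
  have h3 : finrank F U₂ = 0 ∨ finrank F U₂ = 2 := by
    refine irr hdim (fun {v c} h => hne h) ?_
    intro u hu
    have h4 : ((0 : V₀), u) ∈ U := hu
    have h5 := hU _ h4
    change ((t 0 : V₀), t u) ∈ U at h5
    rw [map_zero] at h5
    exact h5
  have h4 : finrank F (LinearMap.ker f) = finrank F U₂ := by
    have hmem : ∀ u : U, f u = 0 → u.1 = (0, u.1.2) := fun u hu => Prod.ext hu rfl
    exact LinearEquiv.finrank_eq
      { toFun := fun u => ⟨u.1.1.2, by
          change ((0 : V₀), u.1.1.2) ∈ U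
          rw [← hmem u.1 u.2]
          exact u.1.2⟩
        invFun := fun u => ⟨⟨(0, u.1), u.2⟩, rfl⟩
        map_add' := fun _ _ => rfl
        map_smul' := fun _ _ => rfl
        left_inv := fun u => Subtype.ext (Subtype.ext (hmem u.1 u.2).symm)
        right_inv := fun _ => rfl }
  omega

end diag

/-- `neg j + (t, t)` -/
theorem negDiag (hQ : Nondeg Q) {m j N : ℕ} (hcard : Fintype.card ι = 2 * m) (hjc : j + 2 = m)
    (hnum : Num (Nat.card F) (Fintype.card ι) (2 * j) N)
    {Q₀ : QuadraticForm F (Fin (2 * 1) → F)} {t : Module.End F (Fin (2 * 1) → F)} (nd : Nondeg Q₀)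
    (sg : HasSign (⇑Q₀) 1 (-1)) (is : ∀ v, Q₀ (t v) = Q₀ v) (ho : ¬ orderOf t ∣ 2)
    (hoq : orderOf t ∣ Nat.card F + 1) (hne : ∀ {v : Fin (2 * 1) → F} {c : F}, t v = c • v → v = 0)
    (hmod : Mod Q m (-1)) :
    ∃ x ∈ omegaGL ⇑Q, NegB j x ∧ InvIn x (setA Q) := by
  have hdim : finrank F (Fin (2 * 1) → F) = 2 := by rw [Module.finrank_fin_fun]
  have hdim2 : finrank F ((Fin (2 * 1) → F) × (Fin (2 * 1) → F)) = 2 * 2 := by
    rw [Module.finrank_prod, hdim]
  let R : Module.End F ((Fin (2 * 1) → F) × (Fin (2 * 1) → F)) :=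
    (t.comp (LinearMap.snd F _ _)).prod (LinearMap.fst F _ _)
  have hj := (num_facts Finite.one_lt_card hnum).2.2.2.2
  have h10 := hnum.ten
  have hNM : N.Coprime (orderOf t) := by
    refine Nat.Coprime.coprime_dvd_right hoq ?_
    refine num_coprime hnum (c := 2) ?_ (by norm_num) (by omega)
    have h3 := Nat.sq_sub_sq (Nat.card F) 1
    rw [one_pow] at h3
    rw [h3]
    exact Dvd.intro _ rfl
  obtain ⟨x, hx, hxN, Q₁, S, e, s, hM, he, -, -, hW⟩ := exists_negB hQ hcard hjc hnum hdim2 (sumQ_nondeg nd nd)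
    ((sg.prod sg :)) (R := R) (T := t.prodMap t) (by
      intro v
      change Q₀ (t v.2) + Q₀ v.1 = Q₀ v.1 + Q₀ v.2
      rw [is, add_comm]) rfl (M := orderOf t) (by
        rw [prodMap_pow', pow_orderOf_eq_one]
        rfl) hNM (by norm_num; exact hmod)
  refine ⟨x, hx, hxN, fun W hWi hd => ?_⟩
  have hW1 := hW W hWi hd
  have h1 := finrank_le_of_fst (e := e) hW1
  rw [hdim2] at h1
  have hxe : ∀ w ∈ W, (e ((x : Matrix ι ι F) *ᵥ w)).2 = (t (e w).2.1, t (e w).2.2) := by
    intro w hw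
    rw [hM.apply, e.apply_symm_apply]
    rfl
  -- no eigenvector in `W`
  have hev : ∀ w ∈ W, ∀ c : F, (x : Matrix ι ι F) *ᵥ w = c • w → w = 0 := by
    intro w hw c hc
    have h2 := hxe w hw
    rw [hc, map_smul] at h2
    have h3 : t (e w).2.1 = c • (e w).2.1 := (congrArg Prod.fst h2).symm
    have h4 : t (e w).2.2 = c • (e w).2.2 := (congrArg Prod.snd h2).symm
    rw [← LinearEquiv.map_eq_zero_iff e]
    exact Prod.ext (hW1 w hw) (Prod.ext (hne h3) (hne h4))
  refine ⟨by omega, ?_, fun h2 hv => ?_⟩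
  · -- even dimension
    let f : (ι → F) →ₗ[F] ((Fin (2 * 1) → F) × (Fin (2 * 1) → F)) :=
      (LinearMap.snd F (Fin (2 * j) → F) _).comp
        (e : (ι → F) →ₗ[F] (Fin (2 * j) → F) × ((Fin (2 * 1) → F) × (Fin (2 * 1) → F)))
    have h3 : finrank F (W.map f) = finrank F W := by
      have hinj : Function.Injective (f.comp W.subtype) := by
        rw [← LinearMap.ker_eq_bot, LinearMap.ker_eq_bot']
        intro w hw
        have h4 : e w = 0 := Prod.ext (hW1 w w.2) hw
        exact Subtype.ext ((LinearEquiv.map_eq_zero_iff e).1 h4)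
      have h4 := LinearMap.finrank_range_of_inj hinj
      rwa [LinearMap.range_comp, Submodule.range_subtype] at h4
    rw [← h3]
    refine even_rank hdim (fun {v c} h => hne h) ?_
    rintro _ ⟨w, hw, rfl⟩
    exact ⟨_, hWi w hw, hxe w hw⟩
  · obtain ⟨v, hvW, hv0, hvQ⟩ := hv
    set! u := (x : Matrix ι ι F) *ᵥ v with hu
    have hxI := omegaGL_le hx
    have huW : u ∈ W := hWi v hvW
    have hu0 : u ≠ 0 := mulVec_ne_zero x hv0
    have huQ : Q u = 0 := by rw [hu, mulVec_isom hxI, hvQ]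
    have hli : LinearIndependent F ![v, u] := by
      rw [LinearIndependent.pair_iff]
      intro α γ h
      have hγ : γ = 0 := by
        by_contra hγ
        apply hv0
        refine hev v hvW (-(γ⁻¹ * α)) ?_
        rw [← hu]
        have h3 : γ • u = -(α • v) := by rw [eq_neg_iff_add_eq_zero, add_comm]; exact h
        have h4 : u = γ⁻¹ • (γ • u) := by rw [smul_smul, inv_mul_cancel₀ hγ, one_smul]
        rw [h4, h3, smul_neg, smul_smul, neg_smul]
      rw [hγ, zero_smul, add_zero] at h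
      exact ⟨(smul_eq_zero.1 h).resolve_right hv0, hγ⟩
    have hspan : Submodule.span F (Set.range ![v, u]) = W := by
      apply Submodule.eq_of_le_of_finrank_eq
      · rw [Submodule.span_le]
        rintro _ ⟨i, rfl⟩
        fin_cases i
        · exact hvW
        · exact huW
      · rw [finrank_span_eq_card hli, h2, Fintype.card_fin]
    have hcomb : ∀ w ∈ W, ∃ α γ : F, w = α • v + γ • u := by
      intro w hw
      rw [← hspan, Matrix.range_cons, Matrix.range_cons, Matrix.range_empty, Set.union_empty, Set.singleton_union,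
        Submodule.mem_span_pair] at hw
      obtain ⟨α, γ, h⟩ := hw
      exact ⟨α, γ, h.symm⟩
    have hQc : ∀ α γ : F, Q (α • v + γ • u) = α * γ * QuadraticMap.polar Q v u := by
      intro α γ
      have h3 : Q (α • v + γ • u) = QuadraticMap.polar Q (α • v) (γ • u) + Q (α • v) + Q (γ • u) := by
        rw [QuadraticMap.polar]
        ring
      rw [h3, QuadraticMap.map_smul, QuadraticMap.map_smul, hvQ, huQ, QuadraticMap.polar_smul_left,
        QuadraticMap.polar_smul_right]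
      simp only [smul_eq_mul]
      ring
    have hβ : QuadraticMap.polar Q v u = 0 := by
      by_contra hβ
      obtain ⟨α, γ, hαγ⟩ := hcomb _ (hWi u huW)
      have h3 : Q ((x : Matrix ι ι F) *ᵥ u) = 0 := by rw [mulVec_isom hxI, huQ]
      rw [hαγ, hQc] at h3
      have h4 := (mul_eq_zero.1 h3).resolve_right hβ
      rcases mul_eq_zero.1 h4 with rfl | rfl
      · rw [zero_smul, zero_add] at hαγ
        exact hu0 (hev u huW γ hαγ)
      · rw [zero_smul, add_zero] at hαγ
        have h5 : QuadraticMap.polar Q ((x : Matrix ι ι F) *ᵥ v) ((x : Matrix ι ι F) *ᵥ u) = QuadraticMap.polar Q v u :=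
          polar_isom hxI v u
        rw [← hu, hαγ, QuadraticMap.polar_smul_right, QuadraticMap.polar_comm, smul_eq_mul] at h5
        have h6 : α = 1 := by
          have h7 : (α - 1) * QuadraticMap.polar Q v u = 0 := by linear_combination h5
          exact sub_eq_zero.1 ((mul_eq_zero.1 h7).resolve_right hβ)
        rw [h6, one_smul] at hαγ
        have h8 := hxe u huW
        rw [hαγ, hu, hxe v hvW] at h8
        have h9 : (e v).2.1 = t (t (e v).2.1) := congrArg Prod.fst h8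
        have h10 : (e v).2.2 = t (t (e v).2.2) := congrArg Prod.snd h8
        apply hv0
        rw [← LinearEquiv.map_eq_zero_iff e]
        exact Prod.ext (hW1 v hvW) (Prod.ext (noSq hdim (fun {v c} h => hne h) ho h9.symm)
          (noSq hdim (fun {v c} h => hne h) ho h10.symm))
    intro w hw
    obtain ⟨α, γ, rfl⟩ := hcomb w hw
    rw [hQc, hβ, mul_zero]

end Cfsg.Agent.H688.Cov
end

-- part: H688/Cov/OMinus
section
/-!
# S2499: the groups `PΩ⁻` of dimension at least 10 (helper688)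
-/

set_option autoImplicit false
set_option linter.unusedSectionVars false

namespace Cfsg.Agent.H688.Cov

open Cfsg Cfsg.Geo Module Polynomial
open Cfsg.Agent.H278.Cov Cfsg.Agent.H383.Cov
open Cfsg.Agent.LieClassical.OrthCore (Nondeg)
open Cfsg.Agent.LieClassical.OrthForms (minusForm coe_minusForm nondeg_minusForm)
open Cfsg.Agent.H377 (HasSign Elt elt_ell exists_minus)
open Cfsg.Agent.H403.Classify (Aniso)
open Cfsg.Agent.H689 (Ppd exists_ppd)
open Cfsg.Agent.H906.Cov (exists_num)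
open scoped MatrixGroups Matrix

theorem coprime_of {b m c s : ℕ} (h : m = b * c + s) (hs : Nat.Coprime b s) : Nat.Coprime b m := by
  rw [h, mul_comm b c]
  exact (Nat.coprime_mul_right_add_right b s c).2 hs

/-- the block sizes of the third class -/
theorem exists_ab {m : ℕ} (hm : 5 ≤ m) (hm6 : m ≠ 6) : ∃ a b : ℕ, a + b = m ∧ Odd a ∧ 3 ≤ a ∧ 2 ≤ b ∧
    Nat.Coprime b m ∧ (∀ r : ℕ, r.Prime → r ≠ 2 → r ∣ m → r < 2 * a + 1) ∧ (b = 3 → m = 10) := by
  have hr : ∀ {r : ℕ}, r ∣ m → r ≤ m := fun h => Nat.le_of_dvd (by omega) h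
  rcases Nat.even_or_odd m with he | ho
  · by_cases h8 : m = 8
    · subst h8
      refine ⟨3, 5, rfl, ⟨1, rfl⟩, le_rfl, by norm_num, by norm_num, fun r h1 h2 h3 => ?_, by norm_num⟩
      exfalso
      apply h2
      have h4 : r ∣ 2 ^ 3 := h3
      exact (Nat.prime_dvd_prime_iff_eq h1 Nat.prime_two).1 (h1.dvd_of_dvd_pow h4)
    · obtain ⟨n, hn⟩ := he
      rcases Nat.even_or_odd n with ⟨k, hk⟩ | ⟨k, hk⟩
      · obtain ⟨k', rfl⟩ : ∃ k', k = k' + 1 := ⟨k - 1, by omega⟩
        refine ⟨2 * k' + 3, 2 * k' + 1, by omega, ⟨k' + 1, by ring⟩, by omega, by omega, ?_, ?_, ?_⟩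
        · exact coprime_of (c := 2) (s := 2) (by omega) (Nat.coprime_two_right.2 ⟨k', rfl⟩)
        · intro r h1 h2 h3
          have := hr h3
          omega
        · intro h; omega
      · obtain ⟨k', rfl⟩ : ∃ k', k = k' + 1 := ⟨k - 1, by omega⟩
        refine ⟨2 * k' + 5, 2 * k' + 1, by omega, ⟨k' + 2, by ring⟩, by omega, by omega, ?_, ?_, ?_⟩
        · refine coprime_of (c := 2) (s := 4) (by omega) ?_
          have h4 : Nat.Coprime (2 * k' + 1) 2 := Nat.coprime_two_right.2 ⟨k', rfl⟩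
          exact h4.mul_right h4
        · intro r h1 h2 h3
          have := hr h3
          omega
        · intro h; omega
  · refine ⟨m - 2, 2, by omega, ?_, by omega, le_rfl, Nat.coprime_two_left.2 ho, ?_, by omega⟩
    · obtain ⟨k, rfl⟩ := ho
      exact ⟨k - 1, by omega⟩
    · intro r h1 h2 h3
      have := hr h3
      omega

variable {ι : Type} [Fintype ι] [DecidableEq ι] {F : Type} [Field F] [Finite F] {Q : QuadraticForm F (ι → F)}

theorem num_card {q n n' k N : ℕ} (h : Num q n k N) (e : n' = n) : Num q n' k N := by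
  rw [e]
  exact h

theorem isPrimePow_card (F : Type) [Field F] [Finite F] : IsPrimePow (Nat.card F) := by
  have := Fintype.ofFinite F
  rw [Nat.card_eq_fintype_card]
  exact Fintype.isPrimePow_card_of_field

/-- **the general row** -/
theorem row_one [Nonempty ι] (hQ : Nondeg Q) (og : OgO ι F) {m : ℕ} (hcard : Fintype.card ι = 2 * m) (hmod : Mod Q m (-1))
    (hm : 5 ≤ m) (hm6 : m ≠ 6) (hq2 : Nat.card F = 2 → m ≠ 5 ∧ m ≠ 7 ∧ m ≠ 9 ∧ m ≠ 10 ∧ m ≠ 11) :
    NoTwo (POmega F ⇑Q) := by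
  have hq := isPrimePow_card F
  have hq1 : 2 ≤ Nat.card F := Finite.one_lt_card
  obtain ⟨N, hN⟩ := exists_num (n := 2 * m) (k := 2 * m) hq (by omega) le_rfl (by omega)
    (fun h => by have := hq2 h; omega) (by omega)
  obtain ⟨N', hN'⟩ := exists_num (n := 2 * m) (k := 2 * (m - 1)) hq (by omega) (by omega) (by omega)
    (fun h => by have := hq2 h; (clear * - hm hm6 this; omega)) (by omega)
  obtain ⟨a, b, hab, ha, ha3, hb2, hbm, hr, hb3⟩ := exists_ab hm hm6
  obtain ⟨l, hl⟩ := exists_ppd (q := Nat.card F) (k := a) hq1 ha3 (by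
    rintro ⟨-, rfl⟩
    exact absurd ha (by decide))
  obtain ⟨l', hl'⟩ := exists_ppd (q := Nat.card F) (k := 2 * b) hq1 (by omega) (by
    rintro ⟨h1, h2⟩
    exact (hq2 h1).2.2.2.1 (hb3 (by omega)))
  have hl2 := hl.two_lt ha3
  have hlo := hl.le_odd ha3 ha
  replace hN := num_card hN hcard
  replace hN' := num_card hN' hcard
  obtain ⟨z, hz, hk2, hkr, hz3⟩ := posNeg hQ (by omega) hab ha hl (by omega) hb2 hl' hmod
  refine noTwo_gen hQ og (j := m) (j' := m - 1) (by omega) (by omega) (S₁ := dimSet ι F {d | d ≤ 2 * 0})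
    (S₂ := dimSet ι F {d | d ≤ 2 * 1}) (S₃ := dimSet ι F {d | d < 2 * b → a ∣ d})
    (stable_dimSet _) (stable_dimSet _) (stable_dimSet _) (negTriv hQ hcard (by omega) hN hmod)
    (negTriv hQ hcard (by omega) hN' hmod) ⟨z, hz, hz3, ?_⟩ ?_ ?_ ?_ ⟨m - 1, by omega⟩ ?_
  · intro r hrp hrd
    have h1 : r ∣ 2 * m := by
      rw [← hcard]
      rcases hrd with h | h
      · exact h.trans (Nat.gcd_dvd_left _ _)
      · exact h.trans (Nat.gcd_dvd_left _ _)
    by_cases h2 : r = 2
    · rw [h2]; exact hk2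
    · have h3 : r ∣ m := ((Nat.coprime_primes hrp Nat.prime_two).2 h2).dvd_of_dvd_mul_left h1
      refine hkr r hrp ?_ ?_
      · have := hr r hrp h2 h3
        omega
      · intro h4
        have h5 : r ∣ b := ((Nat.coprime_primes hrp Nat.prime_two).2 h2).dvd_of_dvd_mul_left h4
        have h6 := Nat.dvd_gcd h5 h3
        rw [hbm] at h6
        exact hrp.one_lt.ne' (Nat.dvd_one.1 h6)
  · intro W h1 _
    have h2 : finrank F W ≤ 2 * 0 := h1
    exact Submodule.finrank_eq_zero.1 (by omega)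
  · intro W h1 _
    have h2 : finrank F W ≤ 2 * 0 := h1
    exact Submodule.finrank_eq_zero.1 (by omega)
  · intro W h1 h2
    have h3 : finrank F W ≤ 2 * 1 := h1
    have h4 : finrank F W < 2 * b → a ∣ finrank F W := h2
    refine Submodule.finrank_eq_zero.1 ?_
    by_contra h0
    have := Nat.le_of_dvd (Nat.pos_of_ne_zero h0) (h4 (by omega))
    omega
  · intro r hrp hrd
    have h1 : r ∣ 2 * m := by
      rw [← hcard]
      exact hrd.trans (Nat.gcd_dvd_left _ _)
    have h2 : r ∣ 2 * (m - 1) := hrd.trans (Nat.gcd_dvd_right _ _)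
    have h3 := Nat.dvd_sub h1 h2
    rw [show 2 * m - 2 * (m - 1) = 2 by (clear * - hm; omega)] at h3
    exact (Nat.prime_dvd_prime_iff_eq hrp Nat.prime_two).1 h3

theorem exists_t (F : Type) [Field F] [Finite F] : ∃ (Q₀ : QuadraticForm F (Fin (2 * 1) → F))
    (t : Module.End F (Fin (2 * 1) → F)), Nondeg Q₀ ∧ HasSign (⇑Q₀) 1 (-1) ∧ (∀ v, Q₀ (t v) = Q₀ v) ∧
      orderOf t = Nat.card F + 1 ∧ ∀ {v : Fin (2 * 1) → F} {c : F}, t v = c • v → v = 0 := by
  obtain ⟨-, Q₀, t, nd, sg, is, os⟩ := elt_ell (F := F) (N := Nat.card F + 1) dvd_rfl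
  refine ⟨Q₀, t, nd, sg, is, os, fun {v c} h => ?_⟩
  exact noEig (by rw [Module.finrank_fin_fun]) (fun v hv => aniso_of_sign nd (Module.finrank_fin_fun F) sg hv)
    is os h

/-- the row with `neg (m - 2) + (t, t)` -/
theorem row_two [Nonempty ι] (hQ : Nondeg Q) (og : OgO ι F) {m : ℕ} (hcard : Fintype.card ι = 2 * m)
    (hmod : Mod Q m (-1)) {j N N' a b l l' : ℕ} (hj : j + 2 = m)
    (hN : Num (Nat.card F) (Fintype.card ι) (2 * j) N) (hN' : Num (Nat.card F) (Fintype.card ι) (2 * (j + 1)) N')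
    (hab : a + b = m) (ha : Odd a) (ha3 : 3 ≤ a) (hb3 : 3 ≤ b) (hl : Ppd (Nat.card F) a l)
    (hl' : Ppd (Nat.card F) (2 * b) l') (ha4 : a ≠ 3 → 5 ≤ a) : NoTwo (POmega F ⇑Q) := by
  have hq1 : 2 ≤ Nat.card F := Finite.one_lt_card
  have h10 := hN.ten
  obtain ⟨Q₀, t, nd, sg, is, os, hne⟩ := exists_t F
  have hl2 := hl.two_lt ha3
  obtain ⟨z, hz, hk2, hkr, hz3⟩ := posNeg hQ (by omega) hab ha hl (by omega) (by omega) hl' hmod
  have hj1 : 1 ≤ j := by omega
  refine noTwo_gen hQ og (j := j) (j' := j + 1) hj1 (by omega) (S₁ := setA Q)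
    (S₂ := setB Q) (S₃ := dimSet ι F {d | d < 2 * b → a ∣ d})
    stable_setA stable_setB (stable_dimSet _)
    (negDiag hQ hcard hj hN nd sg is (by
      rw [os]
      intro h
      have := Nat.le_of_dvd (by norm_num) h
      omega) (by rw [os]) (fun {v c} h => hne h) hmod)
    (negHyp hQ hcard (by omega) hN' hmod) ⟨z, hz, hz3, ?_⟩ (fun W h1 h2 => setA_setB h1 h2) ?_ ?_ ⟨j, by omega⟩ ?_
  · intro r hrp hrd
    have h4 : r ∣ 4 := by
      rcases hrd with h | h
      · have h1 : r ∣ 2 * m := by rw [← hcard]; exact h.trans (Nat.gcd_dvd_left _ _)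
        have h3 := Nat.dvd_sub h1 (h.trans (Nat.gcd_dvd_right _ _))
        rwa [show 2 * m - 2 * j = 4 by omega] at h3
      · have h1 : r ∣ 2 * m := by rw [← hcard]; exact h.trans (Nat.gcd_dvd_left _ _)
        have h3 := Nat.dvd_sub h1 (h.trans (Nat.gcd_dvd_right _ _))
        rw [show 2 * m - 2 * (j + 1) = 2 by omega] at h3
        exact h3.trans (by norm_num)
    have h5 : r = 2 := by
      have h6 : r ∣ 2 ^ 2 := h4
      exact (Nat.prime_dvd_prime_iff_eq hrp Nat.prime_two).1 (hrp.dvd_of_dvd_pow h6)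
    rw [h5]
    exact hk2
  · rintro W ⟨h1, h2, -⟩ h3
    have h4 : finrank F W < 2 * b → a ∣ finrank F W := h3
    refine Submodule.finrank_eq_zero.1 ?_
    by_contra h0
    have h5 := h4 (by omega)
    have h6 := Nat.le_of_dvd (Nat.pos_of_ne_zero h0) h5
    have h7 : a = 3 := by
      by_contra h
      have := ha4 h
      omega
    rw [h7] at h5
    omega
  · rintro W ⟨h1, -⟩ h3
    have h4 : finrank F W < 2 * b → a ∣ finrank F W := h3
    refine Submodule.finrank_eq_zero.1 ?_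
    by_contra h0
    have := Nat.le_of_dvd (Nat.pos_of_ne_zero h0) (h4 (by omega))
    omega
  · intro r hrp hrd
    have h1 : r ∣ 2 * m := by rw [← hcard]; exact hrd.trans (Nat.gcd_dvd_left _ _)
    have h3 := Nat.dvd_sub h1 (hrd.trans (Nat.gcd_dvd_right _ _))
    rw [show 2 * m - 2 * (j + 1) = 2 by omega] at h3
    exact (Nat.prime_dvd_prime_iff_eq hrp Nat.prime_two).1 h3

/-- `m = 6`, `q ≥ 3` -/
theorem row_six [Nonempty ι] (hQ : Nondeg Q) (og : OgO ι F) (hcard : Fintype.card ι = 2 * 6)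
    (hmod : Mod Q 6 (-1)) (hq3 : Nat.card F ≠ 2) : NoTwo (POmega F ⇑Q) := by
  have hq := isPrimePow_card F
  have hq1 : 2 ≤ Nat.card F := Finite.one_lt_card
  obtain ⟨N, hN⟩ := exists_num (n := 2 * 6) (k := 2 * 4) hq (by norm_num) (by norm_num) (by norm_num)
    (fun h => absurd h hq3) (by norm_num)
  obtain ⟨N', hN'⟩ := exists_num (n := 2 * 6) (k := 2 * (4 + 1)) hq (by norm_num) (by norm_num) (by norm_num)
    (fun h => absurd h hq3) (by norm_num)
  obtain ⟨l, hl⟩ := exists_ppd (q := Nat.card F) (k := 3) hq1 (by norm_num) (by norm_num)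
  obtain ⟨l', hl'⟩ := exists_ppd (q := Nat.card F) (k := 2 * 3) hq1 (by norm_num) (fun h => hq3 h.1)
  replace hN := num_card hN hcard
  replace hN' := num_card hN' hcard
  exact row_two hQ og hcard hmod (j := 4) rfl hN hN' rfl (by decide) le_rfl le_rfl hl hl' (fun h => absurd rfl h)

/-- `m = 9`, `q = 2` -/
theorem row_nine [Nonempty ι] (hQ : Nondeg Q) (og : OgO ι F) (hcard : Fintype.card ι = 2 * 9)
    (hmod : Mod Q 9 (-1)) : NoTwo (POmega F ⇑Q) := by
  have hq := isPrimePow_card F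
  have hq1 : 2 ≤ Nat.card F := Finite.one_lt_card
  obtain ⟨N, hN⟩ := exists_num (n := 2 * 9) (k := 2 * 7) hq (by norm_num) (by norm_num) (by norm_num)
    (fun h => by norm_num) (by norm_num)
  obtain ⟨N', hN'⟩ := exists_num (n := 2 * 9) (k := 2 * (7 + 1)) hq (by norm_num) (by norm_num) (by norm_num)
    (fun h => by norm_num) (by norm_num)
  obtain ⟨l, hl⟩ := exists_ppd (q := Nat.card F) (k := 5) hq1 (by norm_num) (by norm_num)
  obtain ⟨l', hl'⟩ := exists_ppd (q := Nat.card F) (k := 2 * 4) hq1 (by norm_num) (by norm_num)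
  replace hN := num_card hN hcard
  replace hN' := num_card hN' hcard
  exact row_two hQ og hcard hmod (j := 7) rfl hN hN' rfl (by decide) (by norm_num) (by norm_num) hl hl'
    (fun _ => le_rfl)

/-- `m = 11`, `q = 2` (valid for all `q`) -/
theorem row_eleven [Nonempty ι] (hQ : Nondeg Q) (og : OgO ι F) (hcard : Fintype.card ι = 2 * 11)
    (hmod : Mod Q 11 (-1)) : NoTwo (POmega F ⇑Q) := by
  have hq := isPrimePow_card F
  have hq1 : 2 ≤ Nat.card F := Finite.one_lt_card
  obtain ⟨N, hN⟩ := exists_num (n := 2 * 11) (k := 2 * 11) hq (by norm_num) (by norm_num) (by norm_num)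
    (fun h => by norm_num) (by norm_num)
  obtain ⟨N', hN'⟩ := exists_num (n := 2 * 11) (k := 2 * 8) hq (by norm_num) (by norm_num) (by norm_num)
    (fun h => by norm_num) (by norm_num)
  obtain ⟨l, hl⟩ := exists_ppd (q := Nat.card F) (k := 7) hq1 (by norm_num) (by norm_num)
  obtain ⟨l', hl'⟩ := exists_ppd (q := Nat.card F) (k := 2 * 4) hq1 (by norm_num) (by norm_num)
  replace hN := num_card hN hcard
  replace hN' := num_card hN' hcard
  have hl2 := hl.two_lt (by norm_num)
  have hlo := hl.le_odd (by norm_num) (by decide)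
  obtain ⟨z, hz, hk2, hkr, hz3⟩ := posNeg hQ (by omega) (m := 11) (a := 7) (b := 4) rfl (by decide) hl (by omega)
    (by norm_num) hl' hmod
  refine noTwo_gen hQ og (j := 11) (j' := 8) (by omega) (by omega) (S₁ := dimSet ι F {d | d ≤ 2 * 0})
    (S₂ := dimSet ι F {d | d ≤ 2 * 3}) (S₃ := dimSet ι F {d | d < 2 * 4 → 7 ∣ d})
    (stable_dimSet _) (stable_dimSet _) (stable_dimSet _) (negTriv hQ hcard (by omega) hN hmod)
    (negTriv hQ hcard (by omega) hN' hmod) ⟨z, hz, hz3, ?_⟩ ?_ ?_ ?_ (by decide) ?_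
  · intro r hrp hrd
    have h1 : r ∣ 2 * 11 := by
      rw [← hcard]
      rcases hrd with h | h
      · exact h.trans (Nat.gcd_dvd_left _ _)
      · exact h.trans (Nat.gcd_dvd_left _ _)
    rcases (Nat.Prime.dvd_mul hrp).1 h1 with h2 | h2
    · rw [(Nat.prime_dvd_prime_iff_eq hrp Nat.prime_two).1 h2]
      exact hk2
    · have h3 := (Nat.prime_dvd_prime_iff_eq hrp (by norm_num)).1 h2
      refine hkr r hrp (by omega) ?_
      rw [h3]
      norm_num
  · intro W h1 _
    have h2 : finrank F W ≤ 2 * 0 := h1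
    exact Submodule.finrank_eq_zero.1 (by omega)
  · intro W h1 _
    have h2 : finrank F W ≤ 2 * 0 := h1
    exact Submodule.finrank_eq_zero.1 (by omega)
  · intro W h1 h2
    have h3 : finrank F W ≤ 2 * 3 := h1
    have h4 : finrank F W < 2 * 4 → 7 ∣ finrank F W := h2
    refine Submodule.finrank_eq_zero.1 ?_
    by_contra h0
    have := Nat.le_of_dvd (Nat.pos_of_ne_zero h0) (h4 (by omega))
    omega
  · intro r hrp hrd
    rw [hcard] at hrd
    exact (Nat.prime_dvd_prime_iff_eq hrp Nat.prime_two).1 hrd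

/-- `m = 10`, `q = 2` (valid for all `q`) -/
theorem row_ten [Nonempty ι] (hQ : Nondeg Q) (og : OgO ι F) (hcard : Fintype.card ι = 2 * 10)
    (hmod : Mod Q 10 (-1)) : NoTwo (POmega F ⇑Q) := by
  have hq := isPrimePow_card F
  have hq1 : 2 ≤ Nat.card F := Finite.one_lt_card
  obtain ⟨N, hN⟩ := exists_num (n := 2 * 10) (k := 2 * 8) hq (by norm_num) (by norm_num) (by norm_num)
    (fun h => by norm_num) (by norm_num)
  obtain ⟨N', hN'⟩ := exists_num (n := 2 * 10) (k := 2 * 7) hq (by norm_num) (by norm_num) (by norm_num)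
    (fun h => by norm_num) (by norm_num)
  obtain ⟨l, hl⟩ := exists_ppd (q := Nat.card F) (k := 5) hq1 (by norm_num) (by norm_num)
  obtain ⟨l', hl'⟩ := exists_ppd (q := Nat.card F) (k := 2 * 5) hq1 (by norm_num) (by norm_num)
  obtain ⟨l₃, hl₃⟩ := exists_ppd (q := Nat.card F) (k := 3) hq1 (by norm_num) (by norm_num)
  replace hN := num_card hN hcard
  replace hN' := num_card hN' hcard
  have hl2 := hl.two_lt (by norm_num)
  have hl32 := hl₃.two_lt (by norm_num)
  obtain ⟨Q₀, t, nd, sg, is, os, hne⟩ := exists_t F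
  obtain ⟨z, hz, hk2, hkr, hz3⟩ := posNeg hQ (by omega) (m := 10) (a := 5) (b := 5) rfl (by decide) hl (by omega)
    (by norm_num) hl' hmod
  refine noTwo_gen hQ og (j := 8) (j' := 7) (by omega) (by omega) (S₁ := setA Q)
    (S₂ := dimSet ι F {d | d ≤ 2 * 3 ∧ 3 ∣ d}) (S₃ := dimSet ι F {d | d < 2 * 5 → 5 ∣ d})
    stable_setA (stable_dimSet _) (stable_dimSet _)
    (negDiag hQ hcard rfl hN nd sg is (by
      rw [os]
      intro h
      have := Nat.le_of_dvd (by norm_num) h
      omega) (by rw [os]) (fun {v c} h => hne h) hmod)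
    (negPos hQ hcard rfl hN' (by decide) (by norm_num) hl₃ (by omega) hmod) ⟨z, hz, hz3, ?_⟩ ?_ ?_ ?_ (by decide) ?_
  · intro r hrp hrd
    rw [hcard] at hrd
    have h5 : r ∣ 4 := by
      rcases hrd with h | h
      · exact h
      · exact Dvd.dvd.trans h (by norm_num)
    have h6 : r ∣ 2 ^ 2 := h5
    rw [(Nat.prime_dvd_prime_iff_eq hrp Nat.prime_two).1 (hrp.dvd_of_dvd_pow h6)]
    exact hk2
  · rintro W ⟨h1, h2, -⟩ ⟨h3, h4⟩
    exact Submodule.finrank_eq_zero.1 (by omega)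
  · rintro W ⟨h1, h2, -⟩ h3
    have h4 : finrank F W < 2 * 5 → 5 ∣ finrank F W := h3
    have h5 := h4 (by omega)
    exact Submodule.finrank_eq_zero.1 (by (clear * - h1 h5; omega))
  · rintro W ⟨h1, h2⟩ h3
    have h4 : finrank F W < 2 * 5 → 5 ∣ finrank F W := h3
    have h5 := h4 (by omega)
    exact Submodule.finrank_eq_zero.1 (by (clear * - h1 h2 h5; solve | lia | omega))
  · intro r hrp hrd
    rw [hcard] at hrd
    exact (Nat.prime_dvd_prime_iff_eq hrp Nat.prime_two).1 hrd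

/-- **COV-OMINUS** (modulo OG-O): all `PΩ⁻` of dimension `2 m ≥ 10` except `PΩ⁻₁₀(2)`, `PΩ⁻₁₂(2)`, `PΩ⁻₁₄(2)` -/
theorem noTwo_ominus_of {m : ℕ} {F : Type} [Field F] [Fintype F]
    (og : OgO ((Fin (m - 1) ⊕ Fin (m - 1)) ⊕ Fin 2) F) (hm : 5 ≤ m)
    (hq2 : Fintype.card F = 2 → 8 ≤ m) {a b : F}
    (hab : ∀ z₁ z₂ : F, z₁ ^ 2 + a * z₁ * z₂ + b * z₂ ^ 2 = 0 → z₁ = 0 ∧ z₂ = 0) :
    NoTwo (POmega F (quadFormMinus (m - 1) F a b)) := by
  have hcard : Fintype.card ((Fin (m - 1) ⊕ Fin (m - 1)) ⊕ Fin 2) = 2 * m := by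
    simp only [Fintype.card_sum, Fintype.card_fin]
    omega
  have hQ : Nondeg (minusForm (m - 1) F a b) := nondeg_minusForm (m - 1) F a b hab
  have hmod : Mod (minusForm (m - 1) F a b) m (-1) := by
    intro V _ _ _ Q' hV hQ' hs
    obtain ⟨e, he⟩ := exists_minus (by omega) hV Q' hQ' hs hab
    exact ⟨e, fun u => by rw [he, coe_minusForm]⟩
  rw [← coe_minusForm]
  rw [← Nat.card_eq_fintype_card] at hq2
  by_cases h6 : m = 6
  · subst h6
    exact row_six hQ og hcard hmod (fun h => by have := hq2 h; omega)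
  by_cases h9 : m = 9
  · subst h9
    exact row_nine hQ og hcard hmod
  by_cases h10 : m = 10
  · subst h10
    exact row_ten hQ og hcard hmod
  by_cases h11 : m = 11
  · subst h11
    exact row_eleven hQ og hcard hmod
  exact row_one hQ og hcard hmod hm h6 (fun h => by have := hq2 h; omega)

end Cfsg.Agent.H688.Cov
end

private theorem dce_fcce4b7a1131 : _root_.True := by
  try have : _root_.True := by simp only [_root_.Cfsg.Agent.H688.Cov.IsM.eq_1]
  try have : _root_.True := by simp only [_root_.Cfsg.Agent.H688.Cov.inc.eq_1]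
  try have : _root_.True := by simp only [_root_.Cfsg.Agent.H688.Cov.mulT.eq_1]
  exact _root_.True.intro
end

-- part: H688/Cov/OMinusFinal
section
set_option linter.all false
open scoped Cfsg.Agent.FastGrp

/-!
# S2499: COV-OMINUS, final form (helper688)

`hP` is the text of `S5948`, as in `H659.CovCore`.
-/

set_option autoImplicit false

namespace Cfsg.Agent.H688.Cov

open Cfsg Cfsg.Geo
open Cfsg.Agent.H278.Cov

theorem ogO_all (hP : Cfsg.Agent.H659.CovCore.S5948Stmt.{0}) (ι : Type) [Fintype ι] [DecidableEq ι] (F : Type) [Field F] [Fintype F] : OgO ι F := by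
  intro k Q hQ H hle hne g hg hnum
  rw [Nat.card_eq_fintype_card] at hnum
  exact Cfsg.Agent.H558.Cov.og_o hP hQ hle hne hg hnum

/-- **COV-OMINUS** : all `PΩ⁻` of dimension `2 m ≥ 10` except `PΩ⁻₁₀(2)`, `PΩ⁻₁₂(2)`, `PΩ⁻₁₄(2)` -/
theorem noTwo_ominus (hP : Cfsg.Agent.H659.CovCore.S5948Stmt.{0}) {m : ℕ} {F : Type} [Field F] [Fintype F]
    (hm : 5 ≤ m) (hq2 : Fintype.card F = 2 → 8 ≤ m) {a b : F}
    (hab : ∀ z₁ z₂ : F, z₁ ^ 2 + a * z₁ * z₂ + b * z₂ ^ 2 = 0 → z₁ = 0 ∧ z₂ = 0) :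
    NoTwo (POmega F (quadFormMinus (m - 1) F a b)) :=
  noTwo_ominus_of (ogO_all hP _ F) hm hq2 hab

end Cfsg.Agent.H688.Cov
end

-- part: H25/Cov/Blk
section
prune_inst 0x1606044004002000018001602200044580005200043000008e00d4208006222c0c126410c800416128280c1580100000010001000000000000004000001002080825204b358ad0416001f000000000000000000000000000000000000000000000000000
set_option linter.all false
open scoped Cfsg.Agent.FastGrp

/-!
# Elements of prime order and their torus (S2499, helper25)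

`V` a space over the finite field `F` with `q` elements.
* `Pr q l d` : `l` is a primitive prime divisor of `q ^ d - 1`;
* `fx x`, `mv x` : fixed space and range of `x - 1`;
* `dvd_dim` : `d` divides `dim X - dim (X ∩ fx x)` for every `x`-invariant subspace `X`;
* `isCompl`, `polar_fx_mv`;
* `exists_torus_quad` : an isometry `x` of a nondegenerate quadratic form with `dim (mv x) = 2 k` lies in a cyclic group of order
  `M`, for every multiple `M` of `l` dividing `q ^ k + 1`, acting trivially on `fx x`.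
-/

set_option autoImplicit false

namespace Cfsg.Agent.H25.Cov

open Module QuadraticMap

/-- `l` is a primitive prime divisor of `q ^ d - 1` -/
structure Pr (q l d : ℕ) : Prop where
  prime : l.Prime
  pos : 0 < d
  dvd_iff : ∀ n, l ∣ q ^ n - 1 ↔ d ∣ n

theorem Pr.of {q l d : ℕ} (hl : l.Prime) (hd : 0 < d) (h : l ∣ q ^ d - 1)
    (h' : ∀ i, 0 < i → i < d → ¬ l ∣ q ^ i - 1) : Pr q l d := by
  refine ⟨hl, hd, fun n => ⟨fun hn => ?_, fun hn => h.trans (Nat.pow_sub_one_dvd_pow_sub_one q hn)⟩⟩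
  have h1 := Nat.dvd_gcd hn h
  rw [Nat.pow_sub_one_gcd_pow_sub_one] at h1
  have h2 : Nat.gcd n d ∣ d := Nat.gcd_dvd_right n d
  have h3 : 0 < Nat.gcd n d := Nat.gcd_pos_of_pos_right n hd
  have h4 : Nat.gcd n d ≤ d := Nat.le_of_dvd hd h2
  rcases h4.lt_or_eq with h5 | h5
  · exact absurd h1 (h' _ h3 h5)
  · rw [← h5]; exact Nat.gcd_dvd_left n d

theorem Pr.not_dvd {q l d : ℕ} (P : Pr q l d) {i : ℕ} (hi : 0 < i) (hid : i < d) : ¬ l ∣ q ^ i - 1 := fun h =>
  absurd (Nat.le_of_dvd hi ((P.dvd_iff i).1 h)) (by omega)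

theorem Pr.dvd {q l d : ℕ} (P : Pr q l d) : l ∣ q ^ d - 1 := (P.dvd_iff d).2 dvd_rfl

theorem Pr.not_dvd_base {q l d : ℕ} (P : Pr q l d) (hq : 0 < q) : ¬ l ∣ q := by
  intro h
  have h1 : l ∣ q ^ d := h.trans (dvd_pow_self q P.pos.ne')
  have h2 : 1 ≤ q ^ d := Nat.one_le_pow _ _ hq
  have h3 : l ∣ q ^ d - (q ^ d - 1) := Nat.dvd_sub h1 P.dvd
  rw [show q ^ d - (q ^ d - 1) = 1 by omega] at h3
  exact P.prime.one_lt.ne' (Nat.dvd_one.1 h3)

/-- `d ∣ l - 1` -/
theorem Pr.lt {q l d : ℕ} (P : Pr q l d) (hq : 0 < q) : d < l := by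
  have h1 : ¬ l ∣ q := P.not_dvd_base hq
  have h2 : Nat.Coprime q l := ((Nat.Prime.coprime_iff_not_dvd P.prime).2 h1).symm
  have h3 : q ^ (l - 1) ≡ 1 [MOD l] := by
    have := Nat.ModEq.pow_totient h2
    rwa [Nat.totient_prime P.prime] at this
  have h4 : l ∣ q ^ (l - 1) - 1 := (Nat.modEq_iff_dvd' (Nat.one_le_pow _ _ hq)).1 h3.symm
  have h5 := Nat.le_of_dvd (by have := P.prime.two_le; omega) ((P.dvd_iff _).1 h4)
  have := P.prime.two_le
  omega

section

variable {F V : Type*} [Field F] [AddCommGroup V] [Module F V]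

theorem Pr.cast_ne_zero [Finite F] {l d : ℕ} (P : Pr (Nat.card F) l d) : (l : F) ≠ 0 := by
  intro h
  have hq : 0 < Nat.card F := Nat.card_pos
  apply P.not_dvd_base hq
  have h1 : l • (1 : F) = 0 := by rw [nsmul_eq_mul, mul_one, h]
  have h2 : addOrderOf (1 : F) ∣ l := addOrderOf_dvd_of_nsmul_eq_zero h1
  rcases (Nat.dvd_prime P.prime).1 h2 with h3 | h3
  · rw [AddMonoid.addOrderOf_eq_one_iff] at h3
    exact absurd h3 one_ne_zero
  · rw [← h3]; exact addOrderOf_dvd_natCard _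

/-- the fixed space -/
def fx (x : V ≃ₗ[F] V) : Submodule F V := LinearMap.ker ((x : V →ₗ[F] V) - LinearMap.id)

/-- the commutator space -/
def mv (x : V ≃ₗ[F] V) : Submodule F V := LinearMap.range ((x : V →ₗ[F] V) - LinearMap.id)

theorem mem_fx {x : V ≃ₗ[F] V} {v : V} : v ∈ fx x ↔ x v = v := by
  unfold fx
  rw [LinearMap.mem_ker, LinearMap.sub_apply, LinearMap.id_apply, sub_eq_zero]
  rfl

theorem mem_mv {x : V ≃ₗ[F] V} {v : V} : v ∈ mv x ↔ ∃ w, x w - w = v := Iff.rfl

theorem finrank_mv [FiniteDimensional F V] (x : V ≃ₗ[F] V) :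
    finrank F (mv x) + finrank F (fx x) = finrank F V :=
  LinearMap.finrank_range_add_finrank_ker _

theorem iter_fx {x : V ≃ₗ[F] V} {w v : V} (hv : x v = v) (hw : x w = w + v) (n : ℕ) :
    (x ^ n) w = w + (n : F) • v := by
  induction n with
  | zero => simp
  | succ n ih =>
    rw [pow_succ', LinearEquiv.mul_apply, ih, map_add, map_smul, hv, hw, Nat.cast_succ, add_smul, one_smul]
    abel

theorem isCompl [FiniteDimensional F V] {x : V ≃ₗ[F] V} {l : ℕ} (hl : (l : F) ≠ 0) (hx : x ^ l = 1) :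
    IsCompl (fx x) (mv x) := by
  have hdis : fx x ⊓ mv x = ⊥ := by
    rw [eq_bot_iff]
    rintro v ⟨h1, h2⟩
    rw [SetLike.mem_coe, mem_fx] at h1
    obtain ⟨w, hw⟩ := mem_mv.1 h2
    have h3 : x w = w + v := by rw [← hw]; abel
    have h4 := iter_fx h1 h3 l
    rw [hx] at h4
    have h5 : (l : F) • v = 0 := by
      have : w = w + (l : F) • v := h4
      simpa using this.symm
    exact (smul_eq_zero.1 h5).resolve_left hl
  refine ⟨disjoint_iff.2 hdis, codisjoint_iff.2 ?_⟩
  apply Submodule.eq_top_of_finrank_eq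
  have h1 := Submodule.finrank_sup_add_finrank_inf_eq (fx x) (mv x)
  have h2 := finrank_mv x
  rw [hdis, finrank_bot] at h1
  omega

/-- **dimensions of invariant subspaces** -/
theorem dvd_dim [Finite F] [FiniteDimensional F V] {l d : ℕ} (P : Pr (Nat.card F) l d) {x : V ≃ₗ[F] V}
    (hx : x ^ l = 1) (X : Submodule F V) (hX : ∀ v ∈ X, x v ∈ X) :
    d ∣ finrank F X - finrank F (X ⊓ fx x : Submodule F V) := by
  classical
  have : Finite V := Module.finite_of_finite F
  have : Fact l.Prime := ⟨P.prime⟩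
  have : Fintype X := Fintype.ofFinite X
  let f : Function.End X := fun v => ⟨x v, hX v v.2⟩
  have hf : ∀ (n : ℕ) (v : X), ((f ^ n) v : V) = (x ^ n) v := by
    intro n
    induction n with
    | zero => intro v; rfl
    | succ n ih =>
      intro v
      rw [pow_succ, pow_succ]
      exact ih (f v)
  have hf1 : f ^ l ^ 1 = 1 := by
    funext v
    apply Subtype.ext
    rw [hf, pow_one, hx]
    rfl
  have h1 := Equiv.Perm.card_fixedPoints_modEq hf1
  let e : Function.fixedPoints f ≃ (X ⊓ fx x : Submodule F V) :=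
    { toFun := fun v => ⟨v.1.1, v.1.2, mem_fx.2 (congrArg Subtype.val v.2)⟩
      invFun := fun v => ⟨⟨v.1, v.2.1⟩, Subtype.ext (mem_fx.1 v.2.2)⟩
      left_inv := fun v => rfl
      right_inv := fun v => rfl }
  rw [← Nat.card_eq_fintype_card, ← Nat.card_eq_fintype_card, Nat.card_congr e,
    Module.natCard_eq_pow_finrank (K := F) (V := X),
    Module.natCard_eq_pow_finrank (K := F) (V := (X ⊓ fx x : Submodule F V))] at h1
  have hle : finrank F (X ⊓ fx x : Submodule F V) ≤ finrank F X :=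
    Submodule.finrank_mono inf_le_left
  set a := finrank F X
  set b := finrank F (X ⊓ fx x : Submodule F V)
  have hq : 0 < Nat.card F := Nat.card_pos
  have h2 : l ∣ Nat.card F ^ a - Nat.card F ^ b :=
    (Nat.modEq_iff_dvd' (Nat.pow_le_pow_right hq hle)).1 h1.symm
  have h3 : Nat.card F ^ a - Nat.card F ^ b = Nat.card F ^ b * (Nat.card F ^ (a - b) - 1) := by
    rw [Nat.mul_sub, mul_one, ← pow_add, Nat.add_sub_cancel' hle]
  rw [h3] at h2
  rcases P.prime.dvd_mul.1 h2 with h4 | h4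
  · exact absurd (P.prime.dvd_of_dvd_pow h4) (P.not_dvd_base hq)
  · exact (P.dvd_iff _).1 h4

/-- the dimension of `mv x` is divisible by `d` -/
theorem dvd_mv [Finite F] [FiniteDimensional F V] {l d : ℕ} (P : Pr (Nat.card F) l d) {x : V ≃ₗ[F] V}
    (hx : x ^ l = 1) : d ∣ finrank F (mv x) := by
  have h1 := dvd_dim P hx ⊤ (fun v _ => trivial)
  rw [top_inf_eq, finrank_top] at h1
  have h2 := finrank_mv x
  rwa [show finrank F V - finrank F (fx x) = finrank F (mv x) by omega] at h1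

theorem mv_ne_bot {x : V ≃ₗ[F] V} (hx : x ≠ 1) : mv x ≠ ⊥ := by
  intro h
  apply hx
  apply LinearEquiv.ext
  intro v
  have h1 : x v - v ∈ mv x := mem_mv.2 ⟨v, rfl⟩
  rw [h, Submodule.mem_bot, sub_eq_zero] at h1
  exact h1

/-- if `dim V < 2 d` and `x ≠ 1` then `dim (mv x) = d` -/
theorem finrank_mv_eq [Finite F] [FiniteDimensional F V] {l d : ℕ} (P : Pr (Nat.card F) l d) {x : V ≃ₗ[F] V}
    (hx : x ^ l = 1) (hx1 : x ≠ 1) (hd : finrank F V < 2 * d) : finrank F (mv x) = d := by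
  obtain ⟨k, hk⟩ := dvd_mv P hx
  have h1 : 0 < finrank F (mv x) := by
    rw [pos_iff_ne_zero]
    intro h
    exact mv_ne_bot hx1 (Submodule.finrank_eq_zero.1 h)
  have h2 := finrank_mv x
  have h3 : k < 2 := by
    by_contra hcon
    have : d * 2 ≤ d * k := Nat.mul_le_mul_left d (by omega)
    omega
  have h4 : k ≠ 0 := by rintro rfl; omega
  obtain rfl : k = 1 := by omega
  omega

theorem mv_inv {x : V ≃ₗ[F] V} {v : V} (hv : v ∈ mv x) : x v ∈ mv x := by
  obtain ⟨w, rfl⟩ := mem_mv.1 hv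
  exact mem_mv.2 ⟨x w, by rw [map_sub]⟩

end

section quad

variable {F V : Type*} [Field F] [AddCommGroup V] [Module F V] {Q : QuadraticForm F V}

theorem polar_fx_mv {x : V ≃ₗ[F] V} (hx : x ∈ H957.isoQ Q) {v w : V} (hv : v ∈ fx x) (hw : w ∈ mv x) :
    polar Q v w = 0 := by
  obtain ⟨u, rfl⟩ := mem_mv.1 hw
  have h1 := H957.polar_iso hx v u
  rw [mem_fx.1 hv, polarBilin_apply_apply, polarBilin_apply_apply] at h1
  rw [polar_sub_right, h1, sub_self]

theorem map_add_fx_mv {x : V ≃ₗ[F] V} (hx : x ∈ H957.isoQ Q) {v w : V} (hv : v ∈ fx x) (hw : w ∈ mv x) :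
    Q (v + w) = Q v + Q w := by
  have h1 := polar_fx_mv hx hv hw
  rw [polar, sub_sub, sub_eq_zero] at h1
  exact h1

theorem sup_decomp [FiniteDimensional F V] {x : V ≃ₗ[F] V} {l : ℕ} (hl : (l : F) ≠ 0) (hx : x ^ l = 1) (v : V) :
    ∃ a ∈ fx x, ∃ b ∈ mv x, a + b = v :=
  Submodule.mem_sup.1 (by rw [(isCompl hl hx).sup_eq_top]; trivial)

/-- the form is nondegenerate on the fixed space -/
theorem nd_fx [FiniteDimensional F V] (hQ : ∀ w, (∀ v, polar Q v w = 0) → w = 0) {x : V ≃ₗ[F] V}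
    (hxQ : x ∈ H957.isoQ Q) {l : ℕ} (hl : (l : F) ≠ 0) (hx : x ^ l = 1) {w : V} (hw : w ∈ fx x)
    (h : ∀ v ∈ fx x, polar Q v w = 0) : w = 0 := by
  apply hQ
  intro v
  obtain ⟨a, ha, b, hb, rfl⟩ := sup_decomp hl hx v
  rw [polar_add_left, h a ha, zero_add, polar_comm]
  exact polar_fx_mv hxQ hw hb

/-- the form is nondegenerate on the commutator space -/
theorem nd_mv [FiniteDimensional F V] (hQ : ∀ w, (∀ v, polar Q v w = 0) → w = 0) {x : V ≃ₗ[F] V}
    (hxQ : x ∈ H957.isoQ Q) {l : ℕ} (hl : (l : F) ≠ 0) (hx : x ^ l = 1) {w : V} (hw : w ∈ mv x)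
    (h : ∀ v ∈ mv x, polar Q v w = 0) : w = 0 := by
  apply hQ
  intro v
  obtain ⟨a, ha, b, hb, rfl⟩ := sup_decomp hl hx v
  rw [polar_add_left, h b hb, add_zero]
  exact polar_fx_mv hxQ ha hw

end quad

section ext

variable {F V : Type*} [Field F] [AddCommGroup V] [Module F V]

/-- extension of an automorphism of a direct summand by the identity -/
noncomputable def extOne {U W : Submodule F V} (h : IsCompl U W) : (W ≃ₗ[F] W) →* (V ≃ₗ[F] V) where
  toFun g := ((Submodule.prodEquivOfIsCompl U W h).symm.trans ((LinearEquiv.refl F U).prodCongr g)).trans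
    (Submodule.prodEquivOfIsCompl U W h)
  map_one' := by
    apply LinearEquiv.ext
    intro v
    exact (Submodule.prodEquivOfIsCompl U W h).apply_symm_apply v
  map_mul' g g' := by
    apply LinearEquiv.ext
    intro v
    show (Submodule.prodEquivOfIsCompl U W h) _ = (Submodule.prodEquivOfIsCompl U W h) _
    congr 1
    show _ = ((LinearEquiv.refl F U).prodCongr g)
      ((Submodule.prodEquivOfIsCompl U W h).symm ((Submodule.prodEquivOfIsCompl U W h)
        (((LinearEquiv.refl F U).prodCongr g') ((Submodule.prodEquivOfIsCompl U W h).symm v))))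
    rw [LinearEquiv.symm_apply_apply]
    rfl

theorem extOne_left {U W : Submodule F V} (h : IsCompl U W) (g : W ≃ₗ[F] W) {v : V} (hv : v ∈ U) :
    extOne h g v = v := by
  have h1 : (Submodule.prodEquivOfIsCompl U W h).symm v = (⟨v, hv⟩, 0) :=
    Submodule.prodEquivOfIsCompl_symm_apply_left U W h ⟨v, hv⟩
  show (Submodule.prodEquivOfIsCompl U W h) (((LinearEquiv.refl F U).prodCongr g)
    ((Submodule.prodEquivOfIsCompl U W h).symm v)) = v
  rw [h1, LinearEquiv.prodCongr_apply, map_zero]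
  simp

theorem extOne_right {U W : Submodule F V} (h : IsCompl U W) (g : W ≃ₗ[F] W) (w : W) :
    extOne h g w = g w := by
  have h1 : (Submodule.prodEquivOfIsCompl U W h).symm w = (0, w) :=
    Submodule.prodEquivOfIsCompl_symm_apply_right U W h w
  show (Submodule.prodEquivOfIsCompl U W h) (((LinearEquiv.refl F U).prodCongr g)
    ((Submodule.prodEquivOfIsCompl U W h).symm w)) = g w
  rw [h1, LinearEquiv.prodCongr_apply, map_zero]
  simp

theorem extOne_injective {U W : Submodule F V} (h : IsCompl U W) : Function.Injective (extOne h) := by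
  intro g g' hg
  apply LinearEquiv.ext
  intro w
  apply Subtype.ext
  rw [← extOne_right h g w, ← extOne_right h g' w, hg]

end ext

section torus

variable {F V : Type*} [Field F] [Finite F] [AddCommGroup V] [Module F V] [FiniteDimensional F V]

/-- an element of a cyclic group `⟨g⟩` of order `N` with `x ^ l = 1` lies in the subgroup of order `M`, `l ∣ M ∣ N` -/
theorem mem_zpowers_pow {G : Type*} [Group G] {g x : G} {N l M : ℕ} (hN : orderOf g = N) (hN0 : 0 < N)
    (hx : x ∈ Subgroup.zpowers g) (hxl : x ^ l = 1) (hlM : l ∣ M) (hM : M ∣ N) :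
    orderOf (g ^ (N / M)) = M ∧ x ∈ Subgroup.zpowers (g ^ (N / M)) := by
  obtain ⟨c, rfl⟩ := hM
  obtain ⟨a, rfl⟩ := hlM
  have hl0 : 0 < l := Nat.pos_of_ne_zero (by rintro rfl; simp at hN0)
  have ha0 : 0 < a := Nat.pos_of_ne_zero (by rintro rfl; simp at hN0)
  have hc0 : 0 < c := Nat.pos_of_ne_zero (by rintro rfl; simp at hN0)
  have hla : 0 < l * a := Nat.mul_pos hl0 ha0
  rw [Nat.mul_div_cancel_left c hla]
  have hfin : IsOfFinOrder g := by
    rw [← orderOf_pos_iff, hN]; exact hN0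
  refine ⟨?_, ?_⟩
  · rw [orderOf_pow' g hc0.ne', hN, Nat.gcd_mul_left_left, Nat.mul_div_cancel _ hc0]
  · rw [← hfin.mem_powers_iff_mem_zpowers] at hx
    obtain ⟨j, rfl⟩ := hx
    have h1 : orderOf g ∣ j * l := by
      rw [orderOf_dvd_iff_pow_eq_one, pow_mul]
      exact hxl
    rw [hN, show l * a * c = a * c * l by ring] at h1
    obtain ⟨t, rfl⟩ := Nat.dvd_of_mul_dvd_mul_right hl0 h1
    refine ⟨((a * t : ℕ) : ℤ), ?_⟩
    show (g ^ c) ^ ((a * t : ℕ) : ℤ) = g ^ (a * c * t)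
    rw [zpow_natCast, ← pow_mul]
    congr 1
    ring

/-- **The torus of an isometry of prime order**: `x` an isometry of order `l`, `l` a primitive prime divisor of `q ^ (2 k) - 1`,
`dim (mv x) = 2 k`, `l ∣ M ∣ q ^ k + 1`: there is an isometry `g` of order `M` trivial on the fixed space with `x ∈ ⟨g⟩`. -/
theorem exists_torus_quad {Q : QuadraticForm F V} (hQ : ∀ w, (∀ v, polar Q v w = 0) → w = 0) {l k : ℕ}
    (P : Pr (Nat.card F) l (2 * k)) {x : V ≃ₗ[F] V} (hxQ : x ∈ H957.isoQ Q) (hx : x ^ l = 1)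
    (hdim : finrank F (mv x) = 2 * k) {M : ℕ} (hM : M ∣ Nat.card F ^ k + 1) (hlM : l ∣ M) :
    ∃ g ∈ H957.isoQ Q, orderOf g = M ∧ x ∈ Subgroup.zpowers g ∧ ∀ v ∈ fx x, g v = v := by
  have hfin : Finite V := Module.finite_of_finite F
  have hl0 := P.cast_ne_zero
  have hk0 : 0 < k := by have := P.pos; omega
  have hl2 : l ≠ 2 := by
    have := P.lt (Nat.card_pos (α := F))
    omega
  set W := mv x with hW
  -- `x` restricted to `W`
  have hxW : ∀ v ∈ W, x v ∈ W := fun v hv => mv_inv hv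
  let y : W ≃ₗ[F] W := LinearEquiv.ofInjectiveEndo ((x : V →ₗ[F] V).restrict hxW) (by
    intro a b hab
    apply Subtype.ext
    apply x.injective
    exact congrArg Subtype.val hab)
  have hy : ∀ v : W, (y v : V) = x v := fun v => rfl
  have hyn : ∀ (n : ℕ) (v : W), ((y ^ n) v : V) = (x ^ n) v := by
    intro n
    induction n with
    | zero => intro v; rfl
    | succ n ih =>
      intro v
      rw [pow_succ, pow_succ, LinearEquiv.mul_apply, LinearEquiv.mul_apply, ih, hy]
  have hyl : y ^ l = 1 := by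
    apply LinearEquiv.ext
    intro v
    apply Subtype.ext
    rw [hyn, hx]; rfl
  have hy1 : y ≠ 1 := by
    intro h
    have hW0 : W = ⊥ := by
      rw [eq_bot_iff]
      intro v hv
      have h1 : x v = v := by
        have := congrArg (fun e : W ≃ₗ[F] W => ((e ⟨v, hv⟩ : W) : V)) h
        exact this
      have h2 : v ∈ fx x ⊓ mv x := ⟨mem_fx.2 h1, hv⟩
      rw [(isCompl hl0 hx).inf_eq_bot] at h2
      exact h2
    rw [hW0, finrank_bot] at hdim
    omega
  have hcardW : (Nat.card F ^ k) * (Nat.card F ^ k) = Nat.card W := by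
    rw [Module.natCard_eq_pow_finrank (K := F) (V := W), hdim, ← pow_add, two_mul]
  obtain ⟨g, hgo, hxg, hgB, hgQ⟩ := H371.Alg.exists_torus_quad (F := F) (V := W)
    (fun v w => polar Q (v : V) (w : V)) (fun v => Q (v : V))
    (fun u v w => by
      show polar Q ((u : V) + (v : V)) (w : V) = _
      rw [polar_add_left])
    (fun c v w => by
      show polar Q (c • (v : V)) (w : V) = _
      rw [polar_smul_left, smul_eq_mul])
    (fun v w => polar_comm _ _ _)
    (fun w hw => Subtype.ext (nd_mv hQ hxQ hl0 hx w.2 (fun v hv => hw ⟨v, hv⟩)))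
    (fun v w => by
      show Q ((v : V) + (w : V)) = _
      rw [polar]; ring)
    (fun c v => by
      show Q (c • (v : V)) = _
      rw [QuadraticMap.map_smul, smul_eq_mul]; ring)
    P.prime hl2 y hyl hy1 (fun v => by rw [hy]; exact hxQ v)
    (by rw [hdim]; exact P.dvd)
    (by
      intro i hi hid
      rw [hdim] at hid
      exact P.not_dvd hi hid)
    hcardW
  obtain ⟨h1, h2⟩ := mem_zpowers_pow hgo (Nat.succ_pos _) hxg hyl hlM hM
  set g' := g ^ ((Nat.card F ^ k + 1) / M) with hg'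
  have hg'Q : ∀ v : W, Q (g' v : V) = Q (v : V) := by
    rw [hg']
    intro v
    induction (Nat.card F ^ k + 1) / M generalizing v with
    | zero => rfl
    | succ n ih => rw [pow_succ, LinearEquiv.mul_apply, ih]; exact hgQ v
  have hc := isCompl hl0 hx
  refine ⟨extOne hc g', ?_, ?_, ?_, fun v hv => extOne_left hc g' hv⟩
  · intro v
    obtain ⟨a, ha, b, hb, rfl⟩ := sup_decomp hl0 hx v
    have h3 : extOne hc g' b = g' ⟨b, hb⟩ := extOne_right hc g' ⟨b, hb⟩
    rw [map_add, extOne_left hc g' ha, h3, map_add_fx_mv hxQ ha (g' ⟨b, hb⟩).2, map_add_fx_mv hxQ ha hb, hg'Q]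
  · rw [orderOf_injective _ (extOne_injective hc), h1]
  · have h3 : x = extOne hc y := by
      apply LinearEquiv.ext
      intro v
      obtain ⟨a, ha, b, hb, rfl⟩ := sup_decomp hl0 hx v
      have h4 : extOne hc y b = y ⟨b, hb⟩ := extOne_right hc y ⟨b, hb⟩
      rw [map_add, map_add, extOne_left hc y ha, h4, hy, mem_fx.1 ha]
    obtain ⟨n, hn⟩ := Subgroup.mem_zpowers_iff.1 h2
    exact ⟨n, by
      show (extOne hc g') ^ n = x
      rw [← map_zpow, hn]
      exact h3.symm⟩

end torus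

end Cfsg.Agent.H25.Cov
end

-- part: H269/U5/ExistA
section
prune_inst 0x140400000400200000005841320004004000420000000008880020002008060c08028400400000402a000014009000000100090004000000400000000000000000010040120a000000018000000000000000000000000000000000000000000000000000
set_option linter.all false
open scoped Cfsg.Agent.FastGrp

-- part: H269/U5/Num
section
/-!
# `PSU₅(q)` has no normal 2-covering: numbers (helper269, for S2499)
-/

set_option autoImplicit false
set_option linter.style.haveILetI false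

namespace Cfsg.Agent.H269.U5

/-- `q = p ^ n`, and `p` has order `k n` modulo the prime `r` -/
structure PN (F : Type*) [Field F] [Fintype F] (p n q k r : ℕ) : Prop where
  pp : p.Prime
  n0 : 0 < n
  qp : q = p ^ n
  cF : Fintype.card F = q ^ 2
  pr : r.Prime
  k0 : 0 < k
  iff : ∀ j, r ∣ p ^ j - 1 ↔ k * n ∣ j
  dv : k * n ∣ r - 1
  rp : ¬ r ∣ p

theorem exists_base {F : Type*} [Field F] [Fintype F] {q : ℕ} (hF : Fintype.card F = q ^ 2) :
    ∃ p n, p.Prime ∧ 0 < n ∧ q = p ^ n ∧ CharP F p := by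
  obtain ⟨p, hchar⟩ := CharP.exists F
  obtain ⟨N, hp, hN⟩ := FiniteField.card F p
  have hqp : ∃ n, q = p ^ n := by
    have h1 : q ∣ p ^ (N : ℕ) := by rw [← hN, hF]; exact dvd_pow_self q (by norm_num)
    obtain ⟨n, -, hn⟩ := (Nat.dvd_prime_pow hp).1 h1
    exact ⟨n, hn⟩
  obtain ⟨n, hn⟩ := hqp
  refine ⟨p, n, hp, ?_, hn, hchar⟩
  rcases Nat.eq_zero_or_pos n with rfl | h
  · rw [pow_zero] at hn
    rw [hn] at hF
    have : 1 < Fintype.card F := Fintype.one_lt_card
    omega
  · exact h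

theorem exists_PN {F : Type*} [Field F] [Fintype F] {q : ℕ} (hF : Fintype.card F = q ^ 2) {p n : ℕ} (hp : p.Prime)
    (hn : 0 < n) (hq : q = p ^ n) {k : ℕ} (hk : 3 ≤ k) (hk6 : ¬ (p = 2 ∧ k * n = 6)) : ∃ r, PN F p n q k r := by
  have h3 : 3 ≤ k * n := hk.trans (Nat.le_mul_of_pos_right k hn)
  obtain ⟨r, hr, hr1, hr2, hr3⟩ := Cfsg.Agent.Lib.Zsigmondy.exists_primitive (a := p) (n := k * n)
    hp.two_le (by omega) (by omega) hk6
  exact ⟨r, ⟨hp, hn, hq, hF, hr, by omega, hr1, hr2, hr3⟩⟩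

section

variable {F : Type*} [Field F] [Fintype F] {p n q k r : ℕ} (h : PN F p n q k r)

include h

theorem PN.ge : k * n < r := by
  have := Nat.le_of_dvd (by have := h.pr.two_le; omega) h.dv
  have := h.pr.two_le
  omega

theorem PN.q2 : 2 ≤ q := by
  rw [h.qp]
  exact h.pp.two_le.trans (Nat.le_self_pow h.n0.ne' p)

theorem PN.ger : k < r := lt_of_le_of_lt (Nat.le_mul_of_pos_right k h.n0) h.ge

theorem PN.key (j : ℕ) : ((p ^ j : ℕ) : ZMod r) = 1 ↔ k * n ∣ j := by
  rw [← h.iff, ← Nat.cast_one, ZMod.natCast_eq_natCast_iff, Nat.ModEq.comm,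
    Nat.modEq_iff_dvd' (Nat.one_le_pow _ _ h.pp.pos)]

theorem PN.qkey (j : ℕ) : (q : ZMod r) ^ j = 1 ↔ k ∣ j := by
  rw [h.qp, ← Nat.cast_pow, ← pow_mul, h.key, mul_comm n j]
  exact Nat.mul_dvd_mul_iff_right h.n0

theorem PN.rq : ¬ r ∣ q := by
  rw [h.qp]
  exact fun h1 => h.rp (h.pr.dvd_of_dvd_pow h1)

theorem PN.cast_ne : ((r : ℕ) : F) ≠ 0 := by
  intro h1
  obtain ⟨p', hp'⟩ := CharP.exists F
  obtain ⟨N, hpp', hN⟩ := FiniteField.card F p'
  have h2 : p' ∣ r := (CharP.cast_eq_zero_iff F p' r).1 h1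
  have h3 : p' = r := (Nat.prime_dvd_prime_iff_eq hpp' h.pr).1 h2
  have h4 : r ∣ q ^ 2 := by
    rw [← h.cF, hN, h3]
    exact dvd_pow_self r N.ne_zero
  exact h.rq (h.pr.dvd_of_dvd_pow h4)

/-- `k = 2 d`: the order of `q²` -/
theorem PN.ord_sq {d : ℕ} (hd : k = 2 * d) : orderOf (Fintype.card F : ZMod r) = d := by
  have hd0 : 0 < d := by have := h.k0; omega
  apply Nat.dvd_antisymm
  · rw [orderOf_dvd_iff_pow_eq_one, h.cF]
    push_cast
    rw [← pow_mul, h.qkey, hd]
  · have h1 := pow_orderOf_eq_one (Fintype.card F : ZMod r)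
    rw [h.cF] at h1 ⊢
    push_cast at h1 ⊢
    rw [← pow_mul, h.qkey, hd] at h1
    exact Nat.dvd_of_mul_dvd_mul_left two_pos h1

/-- `k = 2 d`, `d` odd: the order of `-q` -/
theorem PN.ord_neg {d : ℕ} (hd : k = 2 * d) (hodd : Odd d) : orderOf (-(q : ZMod r)) = d := by
  have : Fact r.Prime := ⟨h.pr⟩
  have hd0 : 0 < d := by have := h.k0; omega
  have hqd : (q : ZMod r) ^ d = -1 := by
    have h1 : ((q : ZMod r) ^ d) ^ 2 = 1 := by rw [← pow_mul, h.qkey, hd, mul_comm]
    rw [pow_two] at h1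
    rcases mul_self_eq_one_iff.1 h1 with h2 | h2
    · exfalso
      rw [h.qkey, hd] at h2
      have := Nat.le_of_dvd hd0 h2
      omega
    · exact h2
  apply Nat.dvd_antisymm
  · rw [orderOf_dvd_iff_pow_eq_one, hodd.neg_pow, hqd, neg_neg]
  · set m := orderOf (-(q : ZMod r)) with hm
    have h1 : (-(q : ZMod r)) ^ m = 1 := pow_orderOf_eq_one _
    have h2 : (q : ZMod r) ^ (2 * m) = 1 := by
      rw [pow_mul, ← neg_sq, ← pow_mul, mul_comm, pow_mul, h1, one_pow]
    rw [h.qkey, hd] at h2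
    exact Nat.dvd_of_mul_dvd_mul_left two_pos h2

/-- `k = 4` -/
theorem PN.ord_neg_four (hk : k = 4) : orderOf (-(q : ZMod r)) = 4 := by
  have : Fact (Nat.Prime 2) := ⟨Nat.prime_two⟩
  apply orderOf_eq_prime_pow (p := 2) (n := 1)
  · rw [pow_one, neg_sq, h.qkey, hk]
    norm_num
  · rw [show 2 ^ (1 + 1) = 4 by norm_num, show (-(q : ZMod r)) ^ 4 = (q : ZMod r) ^ 4 by ring, h.qkey, hk]

end

end Cfsg.Agent.H269.U5
end

-- part: H269/U5/Geo
section
/-!
# `PSU₅(q)` has no normal 2-covering: invariant subspaces (helper269, for S2499)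
-/

set_option autoImplicit false
set_option linter.style.haveILetI false
set_option linter.unusedSectionVars false

namespace Cfsg.Agent.H269.U5

open Cfsg Module Cfsg.Agent.H951 Cfsg.Agent.H950
open scoped MatrixGroups Matrix

variable {F : Type*} [Field F] [Fintype F] {p n q k r : ℕ}

/-- the linear map of a matrix -/
def T (g : GL (Fin 5) F) : Module.End F (Fin 5 → F) := Matrix.toLin' (g : Matrix (Fin 5) (Fin 5) F)

theorem T_apply (g : GL (Fin 5) F) (v : Fin 5 → F) : T g v = (g : Matrix (Fin 5) (Fin 5) F) *ᵥ v := by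
  rw [T, Matrix.toLin'_apply]

theorem T_one : T (1 : GL (Fin 5) F) = 1 := by
  rw [T, Units.val_one, Matrix.toLin'_one]; rfl

theorem T_mul (g h : GL (Fin 5) F) : T (g * h) = T g * T h := by
  rw [T, Units.val_mul, Matrix.toLin'_mul]; rfl

theorem T_pow (g : GL (Fin 5) F) (m : ℕ) : T (g ^ m) = T g ^ m := by
  induction m with
  | zero => rw [pow_zero, pow_zero, T_one]
  | succ m ih => rw [pow_succ, pow_succ, T_mul, ih]

theorem T_inj {g h : GL (Fin 5) F} (hgh : T g = T h) : g = h :=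
  Units.ext (Matrix.toLin'.injective hgh)

theorem T_injective (g : GL (Fin 5) F) : Function.Injective (T g) := by
  intro u v huv
  have h1 := congrArg (T g⁻¹) huv
  rw [← Module.End.mul_apply, ← Module.End.mul_apply, ← T_mul, inv_mul_cancel, T_one] at h1
  exact h1

theorem isom_T {g : GL (Fin 5) F} (hg : g ∈ Cfsg.GU 5 F q) : Isom (hermForm 5 F q) (T g) := by
  intro u v
  rw [T_apply, T_apply]
  exact hg u v

theorem finrank_V : finrank F (Fin 5 → F) = 5 := by rw [Module.finrank_fin_fun]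

/-- the commutator space is nondegenerate and its dimension is a multiple of the order of `-q` -/
theorem cm_rank (h : PN F p n q k r) {x : Module.End F (Fin 5 → F)} (hx : Isom (hermForm 5 F q) x) (hxr : x ^ r = 1)
    (hx1 : x ≠ 1) : orderOf (-(q : ZMod r)) ∣ finrank F (cm x) ∧ finrank F (cm x) ≠ 0 ∧
      finrank F (fx x) + finrank F (cm x) = 5 := by
  have : Fact r.Prime := ⟨h.pr⟩
  have hB := frm_herm h.cF 5
  have hsum := finrank_fx_add_cm h.cast_ne hxr
  rw [finrank_V] at hsum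
  have hcmNd : Nd (hermForm 5 F q) (cm x) := by
    have := hx.nd_inf_cm hB h.cast_ne hxr inv_top (nd_top h.cF 5)
    rwa [top_inf_eq] at this
  refine ⟨ord_neg_dvd h.cF h.rq hx hxr inv_cm hcmNd (inf_fx_of_le_cm h.cast_ne hxr le_rfl), ?_, hsum⟩
  intro h0
  rw [Submodule.finrank_eq_zero] at h0
  apply hx1
  refine LinearMap.ext fun u => ?_
  have h1 : x u - u ∈ cm x := mem_cm.2 ⟨u, rfl⟩
  rw [h0, Submodule.mem_bot, sub_eq_zero] at h1
  exact h1

theorem nd_fx (h : PN F p n q k r) {x : Module.End F (Fin 5 → F)} (hx : Isom (hermForm 5 F q) x) (hxr : x ^ r = 1) :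
    Nd (hermForm 5 F q) (fx x) := by
  have := hx.nd_inf_fx (frm_herm h.cF 5) h.cast_ne hxr inv_top (nd_top h.cF 5)
  rwa [top_inf_eq] at this

theorem dvd_inf_cm (h : PN F p n q k r) {d : ℕ} (hd : k = 2 * d) {x : Module.End F (Fin 5 → F)} (hxr : x ^ r = 1)
    {W : Submodule F (Fin 5 → F)} (hW : _root_.Cfsg.Agent.H951.Inv x W) : d ∣ finrank F ↥(W ⊓ cm x) := by
  have : Fact r.Prime := ⟨h.pr⟩
  have h1 := ord_dvd_finrank hxr (hW.inf inv_cm) (inf_fx_of_le_cm h.cast_ne hxr inf_le_right)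
  rwa [h.ord_sq hd] at h1

theorem dvd_inf_cm' (h : PN F p n q k r) {x : Module.End F (Fin 5 → F)} (hx : Isom (hermForm 5 F q) x) (hxr : x ^ r = 1)
    {W : Submodule F (Fin 5 → F)} (hW : _root_.Cfsg.Agent.H951.Inv x W) (hWn : Nd (hermForm 5 F q) W) :
    orderOf (-(q : ZMod r)) ∣ finrank F ↥(W ⊓ cm x) := by
  have : Fact r.Prime := ⟨h.pr⟩
  exact ord_neg_dvd h.cF h.rq hx hxr (hW.inf inv_cm) (hx.nd_inf_cm (frm_herm h.cF 5) h.cast_ne hxr hW hWn)
    (inf_fx_of_le_cm h.cast_ne hxr inf_le_right)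

theorem le_fx_of_inf_cm (h : PN F p n q k r) {x : Module.End F (Fin 5 → F)} (hxr : x ^ r = 1)
    {W : Submodule F (Fin 5 → F)} (hW : _root_.Cfsg.Agent.H951.Inv x W) (h0 : finrank F ↥(W ⊓ cm x) = 0) : W ≤ fx x := by
  rw [Submodule.finrank_eq_zero] at h0
  have := inf_fx_sup_inf_cm h.cast_ne hxr hW
  rw [h0, sup_bot_eq] at this
  rw [← this]
  exact inf_le_right

/-! ### `k = 10` -/

theorem ten (h : PN F p n q 10 r) {x : Module.End F (Fin 5 → F)} (hx : Isom (hermForm 5 F q) x) (hxr : x ^ r = 1)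
    (hx1 : x ≠ 1) {W : Submodule F (Fin 5 → F)} (hW : _root_.Cfsg.Agent.H951.Inv x W) : W = ⊥ ∨ W = ⊤ := by
  obtain ⟨h1, h2, h3⟩ := cm_rank h hx hxr hx1
  rw [h.ord_neg (d := 5) rfl (by decide)] at h1
  have h4 := Nat.le_of_dvd (Nat.pos_of_ne_zero h2) h1
  have h5 : finrank F (cm x) = 5 := by omega
  have h6 : cm x = ⊤ := Submodule.eq_top_of_finrank_eq (by rw [h5, finrank_V])
  have h7 := dvd_inf_cm h (d := 5) rfl hxr hW
  rw [h6, inf_top_eq] at h7
  have h8 : finrank F W ≤ 5 := by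
    have := Submodule.finrank_le W
    rwa [finrank_V] at this
  rcases Nat.eq_zero_or_pos (finrank F W) with h9 | h9
  · exact Or.inl (Submodule.finrank_eq_zero.1 h9)
  · have := Nat.le_of_dvd h9 h7
    exact Or.inr (Submodule.eq_top_of_finrank_eq (by rw [finrank_V]; omega))

/-! ### `k = 6` -/

theorem six_rank (h : PN F p n q 6 r) {x : Module.End F (Fin 5 → F)} (hx : Isom (hermForm 5 F q) x) (hxr : x ^ r = 1)
    (hx1 : x ≠ 1) : finrank F (cm x) = 3 ∧ finrank F (fx x) = 2 := by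
  obtain ⟨h1, h2, h3⟩ := cm_rank h hx hxr hx1
  rw [h.ord_neg (d := 3) rfl (by decide)] at h1
  omega

theorem six_small (h : PN F p n q 6 r) {x : Module.End F (Fin 5 → F)} (hxr : x ^ r = 1)
    {W : Submodule F (Fin 5 → F)} (hW : _root_.Cfsg.Agent.H951.Inv x W) (h2 : finrank F W ≤ 2) : W ≤ fx x := by
  have h3 := dvd_inf_cm h (d := 3) rfl hxr hW
  have h4 : finrank F ↥(W ⊓ cm x) ≤ finrank F W := Submodule.finrank_mono inf_le_left
  exact le_fx_of_inf_cm h hxr hW (by omega)

/-- totally isotropic invariant subspaces have dimension one -/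
theorem six_ti (h : PN F p n q 6 r) {x : Module.End F (Fin 5 → F)} (hx : Isom (hermForm 5 F q) x) (hxr : x ^ r = 1)
    (hx1 : x ≠ 1) {W : Submodule F (Fin 5 → F)} (hW : _root_.Cfsg.Agent.H951.Inv x W) (hWt : TI (hermForm 5 F q) W) (h0 : W ≠ ⊥) :
    finrank F W = 1 := by
  have hB := frm_herm h.cF 5
  obtain ⟨h1, h2⟩ := six_rank h hx hxr hx1
  have h3 := hB.two_mul_finrank_le (nd_top h.cF 5) le_top hWt
  rw [finrank_top, finrank_V] at h3
  have h4 := six_small h hxr hW (by omega)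
  have h5 := hB.two_mul_finrank_le (nd_fx h hx hxr) h4 hWt
  have h6 : finrank F W ≠ 0 := fun h7 => h0 (Submodule.finrank_eq_zero.1 h7)
  omega

/-- a `p`-element has fixed vectors in every invariant subspace -/
theorem inf_fx_ne [hp : Fact p.Prime] (hpF : p ∣ Fintype.card F) {t : Module.End F (Fin 5 → F)} (ht : t ^ p = 1)
    {U : Submodule F (Fin 5 → F)} (hU : _root_.Cfsg.Agent.H951.Inv t U) (h0 : U ≠ ⊥) : U ⊓ fx t ≠ ⊥ := by
  intro h1
  have h2 := card_pow_modEq ht hU
  rw [h1, finrank_bot, pow_zero] at h2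
  have h3 : finrank F U ≠ 0 := fun h7 => h0 (Submodule.finrank_eq_zero.1 h7)
  have h4 : Fintype.card F ^ finrank F U ≡ 0 [MOD p] :=
    (Nat.modEq_zero_iff_dvd).2 (hpF.trans (dvd_pow_self _ h3))
  have h5 := (Nat.modEq_zero_iff_dvd).1 (h2.symm.trans h4)
  exact hp.out.one_lt.ne' (Nat.dvd_one.1 h5)

theorem le_fx_of_one [hp : Fact p.Prime] (hpF : p ∣ Fintype.card F) {t : Module.End F (Fin 5 → F)} (ht : t ^ p = 1)
    {U : Submodule F (Fin 5 → F)} (hU : _root_.Cfsg.Agent.H951.Inv t U) (h1 : finrank F U = 1) : U ≤ fx t := by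
  have h0 : U ≠ ⊥ := by
    rintro rfl
    rw [finrank_bot] at h1
    omega
  have h2 := inf_fx_ne hpF ht hU h0
  have h3 : finrank F ↥(U ⊓ fx t) ≠ 0 := fun h7 => h2 (Submodule.finrank_eq_zero.1 h7)
  have h4 : finrank F ↥(U ⊓ fx t) ≤ finrank F U := Submodule.finrank_mono inf_le_left
  have h5 : U ⊓ fx t = U := Submodule.eq_of_le_of_finrank_eq inf_le_left (by omega)
  exact inf_eq_left.1 h5

theorem inv_of_comm {x t : Module.End F (Fin 5 → F)} (hc : x * t = t * x) : _root_.Cfsg.Agent.H951.Inv t (fx x) ∧ _root_.Cfsg.Agent.H951.Inv t (cm x) := by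
  have hc' : ∀ v, x (t v) = t (x v) := fun v => congrArg (fun f : Module.End F (Fin 5 → F) => f v) hc
  constructor
  · intro w hw
    rw [mem_fx] at hw ⊢
    rw [hc', hw]
  · intro w hw
    obtain ⟨u, rfl⟩ := mem_cm.1 hw
    exact mem_cm.2 ⟨t u, by rw [map_sub, hc']⟩

/-- no nondegenerate line is invariant under `x` and `t` -/
theorem six_nd (h : PN F p n q 6 r) {x t : Module.End F (Fin 5 → F)} (hx : Isom (hermForm 5 F q) x) (hxr : x ^ r = 1)
    (hx1 : x ≠ 1) (htI : Isom (hermForm 5 F q) t) (htj : Function.Injective t) (ht : t ^ p = 1) (ht1 : t ≠ 1)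
    (hc : x * t = t * x) {W : Submodule F (Fin 5 → F)}
    (hW : _root_.Cfsg.Agent.H951.Inv x W) (hWt : _root_.Cfsg.Agent.H951.Inv t W) (hWn : Nd (hermForm 5 F q) W) : finrank F W ≠ 1 := by
  intro hW1
  have : Fact p.Prime := ⟨h.pp⟩
  have hpF : p ∣ Fintype.card F := by
    rw [h.cF, h.qp, ← pow_mul]
    exact dvd_pow_self p (by have := h.n0; omega)
  have hB := frm_herm h.cF 5
  obtain ⟨h1, h2⟩ := six_rank h hx hxr hx1
  have h3 := six_small h hxr hW (by omega)
  obtain ⟨hfi, hci⟩ := inv_of_comm hc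
  obtain ⟨hfi', hci'⟩ := inv_of_comm hc.symm
  -- `t` is trivial on `[V, x]`
  have h4 : cm x ≤ fx t := by
    have h5 : cm x ⊓ fx t ≠ ⊥ := inf_fx_ne hpF ht hci (by
      intro h6
      rw [h6, finrank_bot] at h1
      omega)
    have h6 : _root_.Cfsg.Agent.H951.Inv x (cm x ⊓ fx t) := inv_cm.inf hfi'
    have h7 := dvd_inf_cm h (d := 3) rfl hxr h6
    have h8 : cm x ⊓ fx t ⊓ cm x = cm x ⊓ fx t := inf_eq_left.2 inf_le_left
    rw [h8] at h7
    have h9 : finrank F ↥(cm x ⊓ fx t) ≠ 0 := fun h7 => h5 (Submodule.finrank_eq_zero.1 h7)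
    have h10 : finrank F ↥(cm x ⊓ fx t) ≤ finrank F (cm x) := Submodule.finrank_mono inf_le_left
    have h11 : cm x ⊓ fx t = cm x := Submodule.eq_of_le_of_finrank_eq inf_le_left (by omega)
    exact inf_eq_left.1 h11
  have h5 : W ≤ fx t := le_fx_of_one hpF ht hWt hW1
  have h6 : hB.perp W ⊓ fx x ≤ fx t := by
    apply le_fx_of_one hpF ht ((htI.inv_perp hB htj hWt).inf hfi)
    have := hB.finrank_perp_inf hWn h3
    omega
  apply ht1
  have h7 : (⊤ : Submodule F (Fin 5 → F)) ≤ fx t := by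
    rw [← (isCompl_fx_cm h.cast_ne hxr).sup_eq_top, ← hB.sup_perp_inf hWn h3]
    exact sup_le (sup_le h5 h6) h4
  exact LinearMap.ext fun u => mem_fx.1 (h7 trivial)

/-! ### `k = 4` -/

theorem four_rank (h : PN F p n q 4 r) {x : Module.End F (Fin 5 → F)} (hx : Isom (hermForm 5 F q) x) (hxr : x ^ r = 1)
    (hx1 : x ≠ 1) : finrank F (cm x) = 4 ∧ finrank F (fx x) = 1 := by
  obtain ⟨h1, h2, h3⟩ := cm_rank h hx hxr hx1
  rw [h.ord_neg_four rfl] at h1
  omega

theorem four_ti (h : PN F p n q 4 r) {x : Module.End F (Fin 5 → F)} (hx : Isom (hermForm 5 F q) x) (hxr : x ^ r = 1)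
    (hx1 : x ≠ 1) {W : Submodule F (Fin 5 → F)} (hW : _root_.Cfsg.Agent.H951.Inv x W) (hWt : TI (hermForm 5 F q) W) : finrank F W ≠ 1 := by
  intro hW1
  obtain ⟨h1, h2⟩ := four_rank h hx hxr hx1
  have h3 := dvd_inf_cm h (d := 2) rfl hxr hW
  have h4 : finrank F ↥(W ⊓ cm x) ≤ finrank F W := Submodule.finrank_mono inf_le_left
  have h5 := le_fx_of_inf_cm h hxr hW (by omega)
  have h6 : W = fx x := Submodule.eq_of_le_of_finrank_eq h5 (by omega)
  have h7 : W ≠ ⊥ := by
    rintro rfl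
    rw [finrank_bot] at hW1
    omega
  obtain ⟨w, hw, hw0⟩ := W.exists_mem_ne_zero_of_ne_bot h7
  obtain ⟨v, hv, hwv⟩ := nd_fx h hx hxr w (h6 ▸ hw) hw0
  exact hwv (hWt w hw v (h6 ▸ hv))

theorem four_nd (h : PN F p n q 4 r) {x : Module.End F (Fin 5 → F)} (hx : Isom (hermForm 5 F q) x) (hxr : x ^ r = 1)
    (hx1 : x ≠ 1) {W : Submodule F (Fin 5 → F)} (hW : _root_.Cfsg.Agent.H951.Inv x W) (hWn : Nd (hermForm 5 F q) W) : finrank F W ≠ 2 := by
  intro hW2
  obtain ⟨h1, h2⟩ := four_rank h hx hxr hx1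
  have h3 := dvd_inf_cm' h hx hxr hW hWn
  rw [h.ord_neg_four rfl] at h3
  have h4 : finrank F ↥(W ⊓ cm x) ≤ finrank F W := Submodule.finrank_mono inf_le_left
  have h5 := le_fx_of_inf_cm h hxr hW (by omega)
  have h6 := Submodule.finrank_mono h5
  omega

end Cfsg.Agent.H269.U5
end

-- part: H269/U5/Exist
section
/-!
# `PSU₅(q)` has no normal 2-covering: the witnesses (helper269, for S2499)
-/

set_option autoImplicit false
set_option linter.style.haveILetI false
set_option linter.unusedSectionVars false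

namespace Cfsg.Agent.H269.U5

open Cfsg Module Cfsg.Agent.H951 Cfsg.Agent.H950 Cfsg.Agent.H918
open Cfsg.Agent.LieClassical.HermBasic Cfsg.Agent.ClassicalGeometry.UnitTransv
open scoped MatrixGroups Matrix

variable {F : Type*} [Field F] [Fintype F] {p n q k r : ℕ}

theorem orderOf_suHom (x : Cfsg.SU 5 F q) : orderOf (suHom 5 F q x) = orderOf x :=
  orderOf_injective _ suHom_injective x

/-- `r` divides `|SU₅(q)|` -/
theorem dvd_SU (h : PN F p n q k r) {d : ℕ} (hk : k = 2 * (d + 2)) (hd : d < 4) (hk4 : d = 0 ∨ Odd (d + 2)) :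
    r ∣ Nat.card (Cfsg.SU 5 F q) := by
  have hq := h.q2
  have h1 : r ∣ q ^ k - 1 := by
    rw [h.qp, ← pow_mul, h.iff, mul_comm]
  rcases hk4 with rfl | hodd
  · -- `k = 4`
    refine Cfsg.Agent.H948.UProd.dvd_card_SU h.cF (m := 5) (i := 3) (by norm_num) (by norm_num) ?_
    rw [Cfsg.Agent.H948.UProd.ph, if_neg (by decide)]
    rw [hk] at h1
    exact h1
  · refine Cfsg.Agent.H948.UProd.dvd_card_SU h.cF (m := 5) (i := d + 1) (by norm_num) (by omega) ?_
    have he : Even (d + 1) := by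
      rcases Nat.even_or_odd (d + 1) with h2 | h2
      · exact h2
      · exfalso
        rw [Nat.odd_iff] at h2 hodd
        omega
    rw [Cfsg.Agent.H948.UProd.ph, if_pos he]
    have h3 : q ^ k - 1 = (q ^ (d + 2) + 1) * (q ^ (d + 2) - 1) := by
      have := Nat.sq_sub_sq (q ^ (d + 2)) 1
      rw [one_pow, ← pow_mul] at this
      rw [hk, mul_comm 2, this]
    rw [h3] at h1
    refine (h.pr.dvd_mul.1 h1).resolve_right fun h4 => ?_
    rw [h.qp, ← pow_mul, h.iff, mul_comm n] at h4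
    have h5 := (Nat.mul_dvd_mul_iff_right h.n0).1 h4
    have := Nat.le_of_dvd (by omega) h5
    omega

theorem exists_ord (h : PN F p n q k r) {d : ℕ} (hk : k = 2 * (d + 2)) (hd : d < 4) (hk4 : d = 0 ∨ Odd (d + 2)) :
    ∃ x : Cfsg.SU 5 F q, orderOf x = r := by
  have : Fact r.Prime := ⟨h.pr⟩
  exact exists_prime_orderOf_dvd_card' r (dvd_SU h hk hd hk4)

theorem ne_one_of_order {G : Type*} [Group G] {x : G} {r : ℕ} (hr : r.Prime) (hx : orderOf x = r) : x ≠ 1 := by
  rintro rfl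
  rw [orderOf_one] at hx
  exact hr.one_lt.ne hx

theorem T_suHom (x : Cfsg.SU 5 F q) (v : Fin 5 → F) : T (suHom 5 F q x) v = act x v := by
  rw [T_apply]; rfl

theorem T_facts (hr : r.Prime) {x : Cfsg.SU 5 F q} (hx : orderOf x = r) :
    Isom (hermForm 5 F q) (T (suHom 5 F q x)) ∧ T (suHom 5 F q x) ^ r = 1 ∧ T (suHom 5 F q x) ≠ 1 := by
  refine ⟨isom_T (suHom_mem x).1, ?_, ?_⟩
  · rw [← T_pow, ← map_pow, ← hx, pow_orderOf_eq_one, map_one, T_one]
  · intro h1
    have h2 : suHom 5 F q x = 1 := T_inj (by rw [h1, T_one])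
    rw [← orderOf_suHom, h2, orderOf_one] at hx
    exact hr.one_lt.ne hx

theorem act_utv_pow (hF : Fintype.card F = q ^ 2) {v : Fin 5 → F} {c : F} (hv : hermForm 5 F q v v = 0)
    (hc : c + c ^ q = 0) (m : ℕ) (x : Fin 5 → F) :
    act (utv hF v c hv hc ^ m) x = x + (m * (c * hermForm 5 F q x v) : F) • v := by
  induction m with
  | zero => rw [pow_zero, act_one, Nat.cast_zero, zero_mul, zero_smul, add_zero]
  | succ m ih =>
    rw [pow_succ', act_mul, ih, act_utv, herm_add_left, herm_smul_left, hv, mul_zero, add_zero, add_assoc, ← add_smul]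
    congr 2
    push_cast
    ring

/-- **the second witness** -/
theorem exists_B (h : PN F p n q 6 r) [CharP F p] : ∃ x : Cfsg.SU 5 F q, orderOf x = r * p := by
  have hF := h.cF
  obtain ⟨s, hs⟩ := exists_ord h (d := 1) rfl (by norm_num) (Or.inr (by decide))
  obtain ⟨hI, hr1, hne⟩ := T_facts h.pr hs
  obtain ⟨-, h2⟩ := six_rank h hI hr1 hne
  obtain ⟨U, hU, hUt, hU1⟩ := exists_ti_plain hF (nd_fx h hI hr1) (k := 1) (by omega)
  have hU0 : U ≠ ⊥ := by
    rintro rfl
    rw [finrank_bot] at hU1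
    omega
  obtain ⟨v, hvU, hv0⟩ := U.exists_mem_ne_zero_of_ne_bot hU0
  have hv := hUt v hvU v hvU
  have hsv : act s v = v := by
    have := mem_fx.1 (hU hvU)
    rwa [T_suHom] at this
  obtain ⟨c, hc0, hc⟩ := exists_trace_zero_ne hF
  set t := utv hF v c hv hc with ht
  have htp : t ^ p = 1 := by
    apply ext_act
    intro x
    rw [ht, act_utv_pow, CharP.cast_eq_zero, zero_mul, zero_smul, add_zero, act_one]
  have ht1 : t ≠ 1 := by
    intro h1
    obtain ⟨x, hx⟩ := exists_herm_ne_zero hF hv0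
    have h3 := act_utv hF hv hc x
    rw [← ht, h1, act_one] at h3
    have h4 : (c * hermForm 5 F q x v) • v = 0 := by
      have := congrArg (fun z => z - x) h3
      simpa only [_root_.smul_eq_zero, _root_.mul_eq_zero, _root_.add_sub_cancel_left, _root_.sub_self] using this.symm
    rcases smul_eq_zero.1 h4 with h5 | h5
    · rcases mul_eq_zero.1 h5 with h6 | h6
      · exact hc0 h6
      · exact hx (herm_eq_zero_swap hF h6)
    · exact hv0 h5
  have hpf : Fact p.Prime := ⟨h.pp⟩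
  have hto : orderOf t = p := orderOf_eq_prime htp ht1
  have hcomm : Commute s t := by
    show s * t = t * s
    apply ext_act
    intro x
    rw [act_mul, act_mul, ht, act_utv, act_utv, act_add, act_smul, hsv]
    congr 2
    conv_rhs => rw [← hsv, herm_act]
  refine ⟨s * t, ?_⟩
  have hco : Nat.Coprime (orderOf s) (orderOf t) := by
    rw [hs, hto]
    exact (Nat.coprime_primes h.pr h.pp).2 (fun h1 => h.rp (dvd_of_eq h1))
  rw [hcomm.orderOf_mul_eq_mul_orderOf_of_coprime hco, hs, hto]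

/-- **the third element**, `q` odd -/
theorem exists_C (h : PN F p n q 4 r) [CharP F p] (hp2 : p ≠ 2) : ∃ x : Cfsg.SU 5 F q, orderOf x = r * 2 := by
  have hF := h.cF
  have h2F : (2 : F) ≠ 0 := by
    intro h2
    have h3 : ((2 : ℕ) : F) = 0 := by exact_mod_cast h2
    have h4 := (CharP.cast_eq_zero_iff F p 2).1 h3
    exact hp2 ((Nat.prime_dvd_prime_iff_eq h.pp Nat.prime_two).1 h4)
  obtain ⟨s, hs⟩ := exists_ord h (d := 0) rfl (by norm_num) (Or.inl rfl)
  obtain ⟨hI, hr1, hne⟩ := T_facts h.pr hs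
  obtain ⟨-, h2⟩ := four_rank h hI hr1 hne
  have hn0 : fx (T (suHom 5 F q s)) ≠ ⊥ := by
    intro h1
    rw [h1, finrank_bot] at h2
    omega
  obtain ⟨e, he, he0⟩ := (fx (T (suHom 5 F q s))).exists_mem_ne_zero_of_ne_bot hn0
  have hse : act s e = e := by
    have := mem_fx.1 he
    rwa [T_suHom] at this
  have hee : hermForm 5 F q e e ≠ 0 := by
    intro h1
    obtain ⟨w, hw, hew⟩ := nd_fx h hI hr1 e he he0
    obtain ⟨a, ha⟩ := (finrank_eq_one_iff_of_nonzero' (⟨e, he⟩ : fx (T (suHom 5 F q s)))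
      (fun h3 => he0 (congrArg Subtype.val h3))).1 h2 ⟨w, hw⟩
    have ha' : a • e = w := congrArg Subtype.val ha
    rw [← ha', herm_smul_right, h1, mul_zero] at hew
    exact hew rfl
  set b := hermForm 5 F q e e with hb
  set c : F := -2 / b with hcd
  have hcb : c * b = -2 := by rw [hcd, div_mul_cancel₀ _ hee]
  have hbq : b ^ q = b := herm_self_pow hF e
  have hcq : c ^ q = c := by
    have h3 : c ^ q * b = c * b := by
      rw [hcb]
      conv_lhs => rw [← hbq]
      rw [← mul_pow, hcb, neg_pow_q hF]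
      congr 1
      have : (2 : F) = ((2 : ℕ) : F) := by norm_num
      rw [this, h.qp]
      have hpf : Fact p.Prime := ⟨h.pp⟩
      have h5 := map_natCast (iterateFrobenius F p n) 2
      rwa [iterateFrobenius_def] at h5
    exact mul_right_cancel₀ hee h3
  let M : Matrix (Fin 5) (Fin 5) F := -(rankOne q (c • e) e)
  have hMv : ∀ x, M *ᵥ x = -(x + (c * hermForm 5 F q x e) • e) := by
    intro x
    show (-(rankOne q (c • e) e)) *ᵥ x = _
    rw [Matrix.neg_mulVec, rankOne_mulVec, smul_smul, mul_comm]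
  have hMdet : M.det = 1 := by
    show (-(rankOne q (c • e) e)).det = 1
    rw [Matrix.det_neg, det_rankOne, herm_smul_left, ← hb, hcb, Fintype.card_fin]
    ring
  have hMh : ∀ x y, hermForm 5 F q (M *ᵥ x) (M *ᵥ y) = hermForm 5 F q x y := by
    intro x y
    rw [hMv, hMv, herm_neg_left, herm_neg_right hF, neg_neg, herm_add_left, herm_add_right hF, herm_add_right hF,
      herm_smul_left, herm_smul_left, herm_smul_right, herm_smul_right, ← hb, mul_pow, hcq, ← herm_swap hF y e]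
    linear_combination (c * hermForm 5 F q x e * hermForm 5 F q e y) * hcb
  let z : Cfsg.SU 5 F q := _root_.Cfsg.Agent.ClassicalGeometry.UnitTransv.mk M hMdet hMh
  have hz : ∀ x, act z x = -(x + (c * hermForm 5 F q x e) • e) := fun x => by rw [act_mk, hMv]
  have hz2 : z ^ 2 = 1 := by
    apply ext_act
    intro x
    rw [pow_two, act_mul, hz, hz, act_one, herm_neg_left, herm_add_left, herm_smul_left, ← hb]
    ext i
    simp only [Pi.add_apply, Pi.neg_apply, Pi.smul_apply, smul_eq_mul]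
    linear_combination (c * hermForm 5 F q x e * e i) * hcb
  have hz1 : z ≠ 1 := by
    intro h1
    obtain ⟨h3, -⟩ := four_rank h hI hr1 hne
    have hcm : cm (T (suHom 5 F q s)) ≠ ⊥ := by
      intro h4
      rw [h4, finrank_bot] at h3
      omega
    obtain ⟨u, hu, hu0⟩ := (cm (T (suHom 5 F q s))).exists_mem_ne_zero_of_ne_bot hcm
    have h4 : hermForm 5 F q u e = 0 := herm_eq_zero_swap hF (hI.fx_cm (frm_herm hF 5) he hu)
    have h5 := hz u
    rw [h1, act_one, h4, mul_zero, zero_smul, add_zero] at h5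
    apply hu0
    have h6 : (2 : F) • u = 0 := by
      rw [two_smul]
      nth_rewrite 1 [h5]
      rw [neg_add_cancel]
    exact (smul_eq_zero.1 h6).resolve_left h2F
  have hf2 : Fact (Nat.Prime 2) := ⟨Nat.prime_two⟩
  have hzo : orderOf z = 2 := orderOf_eq_prime hz2 hz1
  have hcomm : Commute s z := by
    show s * z = z * s
    apply ext_act
    intro x
    rw [act_mul, act_mul, hz, hz, ← neg_one_smul F (x + _), act_smul, act_add, act_smul, hse, neg_one_smul]
    congr 3
    conv_rhs => rw [← hse, herm_act]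
  refine ⟨s * z, ?_⟩
  have hco : Nat.Coprime (orderOf s) (orderOf z) := by
    rw [hs, hzo]
    have := h.ger
    exact (Nat.coprime_primes h.pr Nat.prime_two).2 (by omega)
  rw [hcomm.orderOf_mul_eq_mul_orderOf_of_coprime hco, hs, hzo]

end Cfsg.Agent.H269.U5
end

-- part: H269/U5/ExistA
section
/-!
# `PSU₅(q)` has no normal 2-covering: the first witness (helper269, for S2499)
-/

set_option autoImplicit false
set_option linter.style.haveILetI false
set_option linter.unusedSectionVars false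

namespace Cfsg.Agent.H269.U5

open Cfsg Cfsg.Agent.H918
open scoped MatrixGroups Matrix

/-- `(p ^ 5 + 1) / (p + 1)` -/
def aa (p : ℕ) : ℕ := p ^ 3 * (p - 1) + p * (p - 1) + 1

theorem aa_mul {p : ℕ} (hp : 1 ≤ p) : (p + 1) * aa p = p ^ 5 + 1 := by
  obtain ⟨m, rfl⟩ : ∃ m, p = m + 1 := ⟨p - 1, by omega⟩
  rw [aa, Nat.add_sub_cancel]
  ring

theorem aa_odd {p : ℕ} : ¬ 2 ∣ aa p := by
  intro h
  have h1 : 2 ∣ p * (p - 1) := by
    rcases Nat.even_or_odd p with h2 | h2
    · exact h2.two_dvd.mul_right _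
    · obtain ⟨k, hk⟩ := h2
      exact Dvd.dvd.mul_left ⟨k, by omega⟩ _
  have h2 : aa p = (p ^ 2 + 1) * (p * (p - 1)) + 1 := by rw [aa]; ring
  rw [h2] at h
  have h3 := (Nat.dvd_add_right (h1.mul_left (p ^ 2 + 1))).1 h
  omega

theorem aa_ge {p : ℕ} (hp : 3 ≤ p) : 61 ≤ aa p := by
  have h1 : 3 ^ 3 * 2 ≤ p ^ 3 * (p - 1) := Nat.mul_le_mul (Nat.pow_le_pow_left hp 3) (by omega)
  have h2 : 3 * 2 ≤ p * (p - 1) := Nat.mul_le_mul hp (by omega)
  rw [aa]
  omega

theorem aa_cast {p : ℕ} (hp : 1 ≤ p) (m : ℕ) :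
    ((aa p : ℕ) : ZMod m) = (p : ZMod m) ^ 4 - (p : ZMod m) ^ 3 + (p : ZMod m) ^ 2 - (p : ZMod m) + 1 := by
  rw [aa]
  push_cast [Nat.cast_sub hp]
  ring

theorem aa_25 {p : ℕ} (hp : 1 ≤ p) : ¬ 5 ^ 2 ∣ aa p := by
  intro h
  have h1 := (ZMod.natCast_eq_zero_iff (aa p) (5 ^ 2)).2 h
  rw [aa_cast hp] at h1
  have h2 : ∀ x : ZMod (5 ^ 2), x ^ 4 - x ^ 3 + x ^ 2 - x + 1 ≠ 0 := by decide +kernel
  exact h2 _ h1

variable {F : Type*} [Field F] [Fintype F] {p n q : ℕ}

/-- the prime divisors of `aa p` -/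
theorem prime_dvd_aa (hF : Fintype.card F = p ^ 2) (hp : p.Prime) {l : ℕ} (hl : l.Prime) (hd : l ∣ aa p) :
    l = 5 ∨ PN F p 1 p 10 l := by
  have hlf : Fact l.Prime := ⟨hl⟩
  have hp1 := hp.one_lt.le
  have h2 : l ≠ 2 := by rintro rfl; exact aa_odd hd
  have h5 : (p : ZMod l) ^ 5 = -1 := by
    have h3 : l ∣ p ^ 5 + 1 := by rw [← aa_mul hp1]; exact hd.mul_left _
    have h4 := (ZMod.natCast_eq_zero_iff _ l).2 h3
    push_cast at h4
    exact eq_neg_of_add_eq_zero_left h4
  have hne : (-1 : ZMod l) ≠ 1 := by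
    intro h3
    have h4 : ((2 : ℕ) : ZMod l) = 0 := by push_cast; linear_combination -h3
    have h6 := (ZMod.natCast_eq_zero_iff 2 l).1 h4
    exact h2 ((Nat.prime_dvd_prime_iff_eq hl Nat.prime_two).1 h6)
  have h10 : orderOf (p : ZMod l) ∣ 10 := by
    apply orderOf_dvd_of_pow_eq_one
    rw [show (p : ZMod l) ^ 10 = ((p : ZMod l) ^ 5) ^ 2 by ring, h5]
    ring
  have hn5 : ¬ orderOf (p : ZMod l) ∣ 5 := by
    rw [orderOf_dvd_iff_pow_eq_one, h5]
    exact hne
  have hmem : orderOf (p : ZMod l) ∈ Nat.divisors 10 := Nat.mem_divisors.2 ⟨h10, by norm_num⟩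
  rw [show Nat.divisors 10 = {1, 2, 5, 10} by decide +kernel] at hmem
  simp only [Finset.mem_insert, Finset.mem_singleton] at hmem
  rcases hmem with h3 | h3 | h3 | h3
  · exact absurd (h3 ▸ one_dvd 5) hn5
  · left
    have h4 : (p : ZMod l) ^ 2 = 1 := by rw [← h3]; exact pow_orderOf_eq_one _
    have h6 : (p : ZMod l) = -1 := by
      linear_combination h5 - ((p : ZMod l) ^ 3 + (p : ZMod l)) * h4
    have h7 := (ZMod.natCast_eq_zero_iff (aa p) l).2 hd
    rw [aa_cast hp1, h6] at h7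
    have h8 : ((5 : ℕ) : ZMod l) = 0 := by
      push_cast
      linear_combination h7
    exact (Nat.prime_dvd_prime_iff_eq hl (by norm_num)).1 ((ZMod.natCast_eq_zero_iff 5 l).1 h8)
  · exact absurd (dvd_of_eq h3) hn5
  · right
    refine ⟨hp, one_pos, (pow_one p).symm, hF, hl, by norm_num, ?_, ?_, ?_⟩
    · intro j
      have h4 : ((p ^ j : ℕ) : ZMod l) = ((1 : ℕ) : ZMod l) ↔ l ∣ p ^ j - 1 := by
        rw [ZMod.natCast_eq_natCast_iff, Nat.ModEq.comm, Nat.modEq_iff_dvd' (Nat.one_le_pow _ _ hp.pos)]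
      rw [mul_one, ← h3, orderOf_dvd_iff_pow_eq_one, ← h4]
      push_cast
      exact Iff.rfl
    · rw [mul_one, ← h3]
      apply orderOf_dvd_of_pow_eq_one
      apply ZMod.pow_card_sub_one_eq_one
      intro h4
      rw [h4, zero_pow (by norm_num)] at h5
      exact one_ne_zero (α := ZMod l) (by linear_combination h5)
    · intro h4
      have h6 := (ZMod.natCast_eq_zero_iff p l).2 h4
      rw [h6, zero_pow (by norm_num)] at h5
      exact one_ne_zero (α := ZMod l) (by linear_combination h5)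

theorem not_dvd_nums {r : ℕ} (hr : r.Prime) (h10 : 10 < r) (h11 : r ≠ 11) : ¬ r ∣ 13200 ∧ ¬ r ∣ 51840 := by
  constructor
  · intro h3
    have h4 : r ∣ 5 ^ 2 * (11 * (2 ^ 4 * 3)) := by norm_num; exact h3
    rcases hr.dvd_mul.1 h4 with h5 | h5
    · have := Nat.le_of_dvd (by norm_num) (hr.dvd_of_dvd_pow h5); omega
    · rcases hr.dvd_mul.1 h5 with h6 | h6
      · exact h11 ((Nat.prime_dvd_prime_iff_eq hr (by norm_num)).1 h6)
      · rcases hr.dvd_mul.1 h6 with h7 | h7
        · have := Nat.le_of_dvd (by norm_num) (hr.dvd_of_dvd_pow h7); omega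
        · have := Nat.le_of_dvd (by norm_num) h7; omega
  · intro h3
    have h4 : r ∣ 5 * (2 ^ 7 * 3 ^ 4) := by norm_num; exact h3
    rcases hr.dvd_mul.1 h4 with h5 | h5
    · have := Nat.le_of_dvd (by norm_num) h5; omega
    · rcases hr.dvd_mul.1 h5 with h6 | h6
      · have := Nat.le_of_dvd (by norm_num) (hr.dvd_of_dvd_pow h6); omega
      · have := Nat.le_of_dvd (by norm_num) (hr.dvd_of_dvd_pow h6); omega

/-- **the first witness** -/
theorem exists_A (hF : Fintype.card F = q ^ 2) (hq : 3 ≤ q) (hp : p.Prime) (hn : 0 < n) (hqp : q = p ^ n) :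
    ∃ r, PN F p n q 10 r ∧ ∃ (x : Cfsg.SU 5 F q) (m : ℕ), orderOf x = r ^ (m + 1) ∧ ¬ orderOf x ∣ 13200 ∧
      ¬ orderOf x ∣ 51840 := by
  by_cases hex : ∃ r, PN F p n q 10 r ∧ r ≠ 11
  · obtain ⟨r, h, hr11⟩ := hex
    obtain ⟨x, hx⟩ := exists_ord h (d := 3) rfl (by norm_num) (Or.inr (by decide))
    obtain ⟨h1, h2⟩ := not_dvd_nums h.pr h.ger hr11
    exact ⟨r, h, x, 0, by rw [hx, zero_add, pow_one], by rw [hx]; exact h1, by rw [hx]; exact h2⟩
  push Not at hex
  obtain ⟨r, h⟩ := exists_PN hF hp hn hqp (k := 10) (by norm_num) (by rintro ⟨-, h1⟩; omega)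
  have hr := hex r h
  subst hr
  have hn1 : n = 1 := by
    have := h.ge
    omega
  subst hn1
  rw [pow_one] at hqp
  subst hqp
  have h121 : 11 ^ 2 ∣ aa q := by
    by_contra hcon
    have ha0 : aa q ≠ 0 := by have := aa_ge hq; omega
    have h1 : aa q ∣ 55 := by
      refine (Nat.factorization_prime_le_iff_dvd ha0 (by norm_num)).1 fun l hl => ?_
      by_cases hd : l ∣ aa q
      · rcases prime_dvd_aa hF hp hl hd with rfl | hP
        · have h2 : (aa q).factorization 5 < 2 := by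
            by_contra h3
            exact aa_25 (by omega) ((hl.pow_dvd_iff_le_factorization ha0).2 (by omega))
          have h4 : 1 ≤ (55 : ℕ).factorization 5 :=
            (hl.pow_dvd_iff_le_factorization (by norm_num)).1 (by norm_num)
          omega
        · have h5 := hex l hP
          subst h5
          have h2 : (aa q).factorization 11 < 2 := by
            by_contra h3
            exact hcon ((hl.pow_dvd_iff_le_factorization ha0).2 (by omega))
          have h4 : 1 ≤ (55 : ℕ).factorization 11 :=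
            (hl.pow_dvd_iff_le_factorization (by norm_num)).1 (by norm_num)
          omega
      · rw [Nat.factorization_eq_zero_of_not_dvd hd]
        exact Nat.zero_le _
    have := Nat.le_of_dvd (by norm_num) h1
    have := aa_ge hq
    omega
  have hdS : 11 ^ 2 ∣ Nat.card (Cfsg.SU 5 F q) := by
    refine Cfsg.Agent.H948.UProd.dvd_card_SU hF (m := 5) (i := 4) (by norm_num) (by norm_num) ?_
    rw [Cfsg.Agent.H948.UProd.ph, if_pos (by decide)]
    show 11 ^ 2 ∣ q ^ 5 + 1
    rw [← aa_mul (by omega)]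
    exact h121.mul_left _
  have hf : Fact (Nat.Prime 11) := ⟨by norm_num⟩
  obtain ⟨P⟩ : Nonempty (Sylow 11 (Cfsg.SU 5 F q)) := inferInstance
  have hcyc : IsCyclic P := by
    refine Cfsg.Agent.LieExceptional.CyclicSylow.isCyclic_of_isPGroup_of_hom_GL (F := F) (n := 5) (p := 11) ?_ ?_
      P.isPGroup' ((suHom 5 F q).comp (P : Subgroup (Cfsg.SU 5 F q)).subtype)
      (suHom_injective.comp (P : Subgroup (Cfsg.SU 5 F q)).subtype_injective)
    · rw [Nat.card_eq_fintype_card, hF]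
      exact fun h1 => h.rp (h.pr.dvd_of_dvd_pow h1)
    · intro i h0 h5
      rw [Nat.card_eq_fintype_card, hF, ← pow_mul, h.iff]
      intro h6
      omega
  obtain ⟨x, hx⟩ := hcyc.exists_generator
  have hxo : orderOf (x : Cfsg.SU 5 F q) = Nat.card P := by
    rw [Subgroup.orderOf_coe]
    exact orderOf_eq_card_of_forall_mem_zpowers hx
  have hcP : Nat.card P = 11 ^ (Nat.card (Cfsg.SU 5 F q)).factorization 11 := P.card_eq_multiplicity
  have h2 : 2 ≤ (Nat.card (Cfsg.SU 5 F q)).factorization 11 :=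
    (hf.out.pow_dvd_iff_le_factorization Nat.card_pos.ne').1 hdS
  obtain ⟨m, hm⟩ : ∃ m, (Nat.card (Cfsg.SU 5 F q)).factorization 11 = m + 1 :=
    ⟨(Nat.card (Cfsg.SU 5 F q)).factorization 11 - 1, by omega⟩
  have hd : 11 ^ 2 ∣ orderOf (x : Cfsg.SU 5 F q) := by
    rw [hxo, hcP]
    exact pow_dvd_pow 11 h2
  refine ⟨11, h, x, m, by rw [hxo, hcP, hm], fun h3 => ?_, fun h3 => ?_⟩
  · have := hd.trans h3
    norm_num at this
  · have := hd.trans h3
    norm_num at this

end Cfsg.Agent.H269.U5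
end

private theorem dce_944f71f7dced : _root_.True := by
  try have : _root_.True := by simp only [_root_.Cfsg.Agent.H269.U5.T.eq_1]
  try have : _root_.True := by simp only [_root_.Cfsg.Agent.H269.U5.aa.eq_1]
  try have : _root_.True := by simp only [_root_.Cfsg.Agent.H948.UProd.ph.eq_1]
  exact _root_.True.intro
end
end
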